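import Groth.Agent.Sga4h.H912.CoeffSheaf

/-!
# Extension of coefficients and traces of Frobenius

For a coefficient extension `L₂ = L ⊗_Λ Λ₂` (`IsExtSh L L₂ s`), `Λ`, `Λ₂` fields: the traces of
`FinFr.galLin`, `FinFr.frob`, `FinFr.frobC` and the local traces `FinFr.locTrace` of `L₂` are the images of those of `L`.
More generally there is an equivalence `Λ₂ ⊗ H^n(L) ≃ H^n(L₂)` compatible with the Galois action.
-/

set_option autoImplicit false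
universe u

open CategoryTheory CategoryTheory.Limits AlgebraicGeometry Opposite

namespace Groth.Agent.Sga4h.H912.CoeffFrob

open Groth.Agent.Sga4h.H912.CoeffExt Groth.Agent.Sga4h.H912.CoeffSheaf

section Gal

variable {k : Type u} [Field k] {K : Type u} [Field K] [Algebra k K]
variable {X₀ : Scheme.{u}} (a : X₀ ⟶ Spec (CommRingCat.of k)) [Fact FinFr.PullExact.{u}]

section Ring

variable {Λ Λ₂ : Type} [CommRing Λ] [CommRing Λ₂] [Algebra Λ Λ₂]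
variable {L : EtLam.Sheaf Λ X₀} {L₂ : EtLam.Sheaf Λ₂ X₀} {s : L.carrier ⟶ L₂.carrier}

theorem galLin_map (σ : K ≃ₐ[k] K) (L : EtLam.Sheaf Λ X₀) (L₂ : EtLam.Sheaf Λ₂ X₀) (s : L.carrier ⟶ L₂.carrier) (n : ℕ)
    (x : EtCoh.H (FinFr.ext K a) (EtLam.pullback (FinFr.extπ K a) L).carrier n) :
    FinFr.galLin a σ L₂ n (Sheaf.H.map ((EtCoh.pull (FinFr.extπ K a)).map s) n x) =
      Sheaf.H.map ((EtCoh.pull (FinFr.extπ K a)).map s) n (FinFr.galLin a σ L n x) := by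
  have := FinFr.pullExact_out (FinFr.galAct a σ)
  exact EtCore.HpullVia_natural _ _ _ _ s n x

/-- `Λ₂ ⊗ H^n(X, L) ≃ H^n(X, L₂)` is Galois equivariant. -/
theorem exists_equiv_galLin (h : IsExtSh L L₂ s) (σ : K ≃ₐ[k] K) (n : ℕ) :
    ∃ e : TensorProduct Λ Λ₂ (EtCoh.H (FinFr.ext K a) (EtLam.pullback (FinFr.extπ K a) L).carrier n) ≃ₗ[Λ₂]
        EtCoh.H (FinFr.ext K a) (EtLam.pullback (FinFr.extπ K a) L₂).carrier n,
      e.conj ((FinFr.galLin a σ L n).baseChange Λ₂) = FinFr.galLin a σ L₂ n :=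
  IsExtMod.exists_equiv_comp ((h.pullback (FinFr.extπ K a)).isExtMod n) _ _ (galLin_map a σ L L₂ s n)

end Ring

section Field

variable {Λ Λ₂ : Type} [Field Λ] [Field Λ₂] [Algebra Λ Λ₂]
variable {L : EtLam.Sheaf Λ X₀} {L₂ : EtLam.Sheaf Λ₂ X₀} {s : L.carrier ⟶ L₂.carrier}

theorem trace_galLin (h : IsExtSh L L₂ s) (σ : K ≃ₐ[k] K) (n : ℕ) :
    LinearMap.trace Λ₂ _ (FinFr.galLin a σ L₂ n) = algebraMap Λ Λ₂ (LinearMap.trace Λ _ (FinFr.galLin a σ L n)) :=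
  IsExtMod.trace_eq ((h.pullback (FinFr.extπ K a)).isExtMod n) _ _ (galLin_map a σ L L₂ s n)

end Field

end Gal

section Frob

variable {k : Type u} [Field k] [Fintype k] {K : Type u} [Field K] [Algebra k K] [Algebra.IsAlgebraic k K]
variable {X₀ : Scheme.{u}} [Fact FinFr.PullExact.{u}]
variable {Λ Λ₂ : Type} [Field Λ] [Field Λ₂] [Algebra Λ Λ₂]
variable {L : EtLam.Sheaf Λ X₀} {L₂ : EtLam.Sheaf Λ₂ X₀} {s : L.carrier ⟶ L₂.carrier}

theorem trace_frob (a : X₀ ⟶ Spec (CommRingCat.of k)) (h : IsExtSh L L₂ s) (n : ℕ) :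
    LinearMap.trace Λ₂ _ (FinFr.frob (K := K) a L₂ n) =
      algebraMap Λ Λ₂ (LinearMap.trace Λ _ (FinFr.frob (K := K) a L n)) :=
  trace_galLin a h _ n

theorem locTrace_eq (h : IsExtSh L L₂ s) (x : Spec (CommRingCat.of k) ⟶ X₀) :
    FinFr.locTrace (K := K) x L₂ = algebraMap Λ Λ₂ (FinFr.locTrace (K := K) x L) :=
  trace_frob (𝟙 _) (h.pullback x) 0

theorem trace_frobC {P₀ : Scheme.{u}} (j : X₀ ⟶ P₀) [IsOpenImmersion j] (b : P₀ ⟶ Spec (CommRingCat.of k))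
    (h : IsExtSh L L₂ s) (n : ℕ) :
    LinearMap.trace Λ₂ _ (FinFr.frobC (K := K) j b L₂ n) =
      algebraMap Λ Λ₂ (LinearMap.trace Λ _ (FinFr.frobC (K := K) j b L n)) :=
  trace_frob b (h.extZeroLam j) n

/-- The sum of the local traces over the rational points. -/
theorem sum_locTrace_eq (a : X₀ ⟶ Spec (CommRingCat.of k)) (h : IsExtSh L L₂ s) :
    ∑ᶠ x : FinFr.RatPt a, FinFr.locTrace (K := K) x.1 L₂ =
      algebraMap Λ Λ₂ (∑ᶠ x : FinFr.RatPt a, FinFr.locTrace (K := K) x.1 L) := by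
  have h1 := AddMonoidHom.map_finsum_of_injective (algebraMap Λ Λ₂ : Λ →+ Λ₂)
    (FaithfulSMul.algebraMap_injective Λ Λ₂) (fun x : FinFr.RatPt a => FinFr.locTrace (K := K) x.1 L)
  refine Eq.trans ?_ h1.symm
  exact finsum_congr fun x => locTrace_eq h x.1

/-- The alternating sum of the traces of Frobenius. -/
theorem sum_trace_frob_eq (a : X₀ ⟶ Spec (CommRingCat.of k)) (h : IsExtSh L L₂ s) :
    ∑ᶠ i : ℕ, (-1 : Λ₂) ^ i * LinearMap.trace Λ₂ _ (FinFr.frob (K := K) a L₂ i) =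
      algebraMap Λ Λ₂ (∑ᶠ i : ℕ, (-1 : Λ) ^ i * LinearMap.trace Λ _ (FinFr.frob (K := K) a L i)) := by
  have h1 := AddMonoidHom.map_finsum_of_injective (algebraMap Λ Λ₂ : Λ →+ Λ₂)
    (FaithfulSMul.algebraMap_injective Λ Λ₂)
    (fun i : ℕ => (-1 : Λ) ^ i * LinearMap.trace Λ _ (FinFr.frob (K := K) a L i))
  refine Eq.trans ?_ h1.symm
  refine finsum_congr fun i => ?_
  rw [trace_frob a h i]
  change _ = algebraMap Λ Λ₂ _
  rw [map_mul, map_pow, map_neg, map_one]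

theorem sum_trace_frobC_eq {P₀ : Scheme.{u}} (j : X₀ ⟶ P₀) [IsOpenImmersion j] (b : P₀ ⟶ Spec (CommRingCat.of k))
    (h : IsExtSh L L₂ s) :
    ∑ᶠ i : ℕ, (-1 : Λ₂) ^ i * LinearMap.trace Λ₂ _ (FinFr.frobC (K := K) j b L₂ i) =
      algebraMap Λ Λ₂ (∑ᶠ i : ℕ, (-1 : Λ) ^ i * LinearMap.trace Λ _ (FinFr.frobC (K := K) j b L i)) :=
  sum_trace_frob_eq b (h.extZeroLam j)

/-- The trace formula for `L ⊗ Λ₂` implies the trace formula for `L`. -/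
theorem formula_of_ext {P₀ : Scheme.{u}} (a : X₀ ⟶ Spec (CommRingCat.of k)) (j : X₀ ⟶ P₀) [IsOpenImmersion j]
    (b : P₀ ⟶ Spec (CommRingCat.of k)) (h : IsExtSh L L₂ s)
    (h₂ : ∑ᶠ x : FinFr.RatPt a, FinFr.locTrace (K := K) x.1 L₂ =
      ∑ᶠ i : ℕ, (-1 : Λ₂) ^ i * LinearMap.trace Λ₂ _ (FinFr.frobC (K := K) j b L₂ i)) :
    ∑ᶠ x : FinFr.RatPt a, FinFr.locTrace (K := K) x.1 L =
      ∑ᶠ i : ℕ, (-1 : Λ) ^ i * LinearMap.trace Λ _ (FinFr.frobC (K := K) j b L i) := by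
  rw [sum_locTrace_eq a h, sum_trace_frobC_eq j b h] at h₂
  exact FaithfulSMul.algebraMap_injective Λ Λ₂ h₂

/-- The trace formula for `L ⊗ Λ₂` implies the trace formula for `L`, proper form. -/
theorem formula_of_ext' (a : X₀ ⟶ Spec (CommRingCat.of k)) (h : IsExtSh L L₂ s)
    (h₂ : ∑ᶠ x : FinFr.RatPt a, FinFr.locTrace (K := K) x.1 L₂ =
      ∑ᶠ i : ℕ, (-1 : Λ₂) ^ i * LinearMap.trace Λ₂ _ (FinFr.frob (K := K) a L₂ i)) :
    ∑ᶠ x : FinFr.RatPt a, FinFr.locTrace (K := K) x.1 L =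
      ∑ᶠ i : ℕ, (-1 : Λ) ^ i * LinearMap.trace Λ _ (FinFr.frob (K := K) a L i) := by
  rw [sum_locTrace_eq a h, sum_trace_frob_eq a h] at h₂
  exact FaithfulSMul.algebraMap_injective Λ Λ₂ h₂

end Frob

end Groth.Agent.Sga4h.H912.CoeffFrob
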