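import Groth.Agent.Sga4h.H912.TwistInv
import Groth.Agent.Sga4h.H912.CoeffFrob

/-!
# The defect of the trace formula: twists and extension of coefficients
-/

set_option autoImplicit false
universe u

open CategoryTheory CategoryTheory.Limits AlgebraicGeometry Opposite

namespace Groth.Agent.Sga4h.H912.TrDefect

open Groth.Agent.Sga4h.H925.Defs Groth.Agent.Sga4h.H925.Inv Groth.Agent.Sga4h.H925.DetInv
open Groth.Agent.Sga4h.H912.TwistFrob Groth.Agent.Sga4h.H912.CoeffSheaf

variable {k : Type u} [Field k] [Fintype k] {K : Type u} [Field K] [Algebra k K] [Algebra.IsAlgebraic k K]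
  [Fact FinFr.PullExact.{u}] {P : Scheme.{u}} (b : P ⟶ Spec (CommRingCat.of k))

section Twist

variable {Λ : Type} [Field Λ] {c : Λ} {L L' : EtLam.Sheaf Λ P}

theorem glob_eq (L : EtLam.Sheaf Λ P) : glob K (traceInv Λ) b L =
    ∑ᶠ n : ℕ, (-1 : ℤ) ^ n • LinearMap.trace Λ (HK K b L n) (frobK K b L n) := rfl

theorem locV_eq (x : P) (L : EtLam.Sheaf Λ P) : locV K (traceInv Λ) b x L =
    LinearMap.trace Λ (HK K (P.fromSpecResidueField x ≫ b) (EtLam.pullback (P.fromSpecResidueField x) L) 0)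
      (frobK K (P.fromSpecResidueField x ≫ b) (EtLam.pullback (P.fromSpecResidueField x) L) 0) := rfl

variable {b}

theorem glob_twist (h : FrobTwist K b c L L') : glob K (traceInv Λ) b L' = c * glob K (traceInv Λ) b L := by
  rw [glob_eq, glob_eq, mul_finsum_field]
  exact finsum_congr fun n => by rw [h.trace_frobK n, mul_smul_comm]

theorem locV_twist (h : FrobTwist K b c L L') (x : P) :
    locV K (traceInv Λ) b x L' = c * locV K (traceInv Λ) b x L := by
  rw [locV_eq, locV_eq]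
  exact (FrobTwist.pullback (P.fromSpecResidueField x) rfl h).trace_frobK 0

theorem loc_twist (N : ℕ) (h : FrobTwist K b c L L') : loc K (traceInv Λ) b N L' = c * loc K (traceInv Λ) b N L := by
  unfold loc
  rw [mul_finsum_field]
  exact finsum_congr fun x => locV_twist h x.1.1

theorem defect_twist (N : ℕ) (h : FrobTwist K b c L L') :
    defect K (traceInv Λ) b N L' = c * defect K (traceInv Λ) b N L := by
  unfold defect
  rw [glob_twist h, loc_twist N h, mul_sub]

end Twist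

section Ext

variable {Λ Λ₂ : Type} [Field Λ] [Field Λ₂] [Algebra Λ Λ₂]
variable {L : EtLam.Sheaf Λ P} {L₂ : EtLam.Sheaf Λ₂ P} {s : L.carrier ⟶ L₂.carrier}

theorem trace_frobK_ext {P : Scheme.{u}} {L : EtLam.Sheaf Λ P} {L₂ : EtLam.Sheaf Λ₂ P} {s : L.carrier ⟶ L₂.carrier}
    (b : P ⟶ Spec (CommRingCat.of k)) (h : IsExtSh L L₂ s) (n : ℕ) :
    LinearMap.trace Λ₂ _ (frobK K b L₂ n) = algebraMap Λ Λ₂ (LinearMap.trace Λ _ (frobK K b L n)) :=
  CoeffFrob.trace_frob b h n

theorem glob_ext (h : IsExtSh L L₂ s) :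
    glob K (traceInv Λ₂) b L₂ = algebraMap Λ Λ₂ (glob K (traceInv Λ) b L) := by
  rw [glob_eq, glob_eq]
  have h1 := AddMonoidHom.map_finsum_of_injective (algebraMap Λ Λ₂ : Λ →+ Λ₂)
    (FaithfulSMul.algebraMap_injective Λ Λ₂)
    (fun n : ℕ => (-1 : ℤ) ^ n • LinearMap.trace Λ (HK K b L n) (frobK K b L n))
  refine Eq.trans ?_ h1.symm
  refine finsum_congr fun n => ?_
  rw [trace_frobK_ext b h n]
  exact (map_zsmul (algebraMap Λ Λ₂ : Λ →+ Λ₂) _ _).symm

theorem loc_ext (N : ℕ) (h : IsExtSh L L₂ s) :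
    loc K (traceInv Λ₂) b N L₂ = algebraMap Λ Λ₂ (loc K (traceInv Λ) b N L) := by
  unfold loc
  have h1 := AddMonoidHom.map_finsum_of_injective (algebraMap Λ Λ₂ : Λ →+ Λ₂)
    (FaithfulSMul.algebraMap_injective Λ Λ₂)
    (fun x : {x : FinFr.ClosedPt P // FinFr.ptDeg b x.1 ≤ N} => locV K (traceInv Λ) b x.1.1 L)
  refine Eq.trans ?_ h1.symm
  refine finsum_congr fun x => ?_
  rw [locV_eq, locV_eq]
  exact trace_frobK_ext _ (h.pullback (P.fromSpecResidueField x.1.1)) 0

theorem defect_ext (N : ℕ) (h : IsExtSh L L₂ s) :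
    defect K (traceInv Λ₂) b N L₂ = algebraMap Λ Λ₂ (defect K (traceInv Λ) b N L) := by
  unfold defect
  rw [glob_ext b h, loc_ext b N h, map_sub]

/-- Descent of the formula along an extension of coefficients. -/
theorem defect_eq_zero_of_ext (N : ℕ) (h : IsExtSh L L₂ s) (h0 : defect K (traceInv Λ₂) b N L₂ = 0) :
    defect K (traceInv Λ) b N L = 0 := by
  rw [defect_ext b N h] at h0
  exact (map_eq_zero (algebraMap Λ Λ₂)).1 h0

end Ext

end Groth.Agent.Sga4h.H912.TrDefect
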