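import Groth.Agent.Sga4h.H912.Twist

/-!
# Galois twists

`GalTwist a σ c L L'`: `L'` is the twist of `L` by `c` with respect to `id × Spec σ` on `X₀ ×_k K`.
Invariance, pullback along `k`-morphisms, extension by zero.
-/

set_option autoImplicit false
universe u

open CategoryTheory CategoryTheory.Limits AlgebraicGeometry Opposite

namespace Groth.Agent.Sga4h.H912.TwistGal

open Groth.Agent.Etcore.PullCoh Groth.Agent.Sga4h.H912.TwistCoh Groth.Agent.Sga4h.H912.Twist

variable {k : Type u} [Field k] {K : Type u} [Field K] [Algebra k K] {Λ : Type} [CommRing Λ]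

/-- Galois twist of sheaves on the `k`-scheme `X₀`: `L'` is the twist of `L` by `c` with respect to `σ`. -/
def GalTwist {X₀ : Scheme.{u}} (a : X₀ ⟶ Spec (CommRingCat.of k)) (σ : K ≃ₐ[k] K) (c : Λ) (L L' : EtLam.Sheaf Λ X₀) :
    Prop :=
  TwistVia (FinFr.extπ K a) (FinFr.galAct a σ) (FinFr.galAct_fst a σ) c L L'

variable {X₀ : Scheme.{u}} (a : X₀ ⟶ Spec (CommRingCat.of k))

theorem GalTwist.congr {a} {σ : K ≃ₐ[k] K} {c : Λ} {L L' L₁ L₁' : EtLam.Sheaf Λ X₀} (h : GalTwist a σ c L L')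
    (hL : LamIso L L₁) (hL' : LamIso L' L₁') : GalTwist a σ c L₁ L₁' :=
  TwistVia.congr h hL hL'

theorem galAct_extHom {Y₀ : Scheme.{u}} {b : Y₀ ⟶ Spec (CommRingCat.of k)} (g : X₀ ⟶ Y₀) (w : g ≫ b = a)
    (σ : K ≃ₐ[k] K) : FinFr.galAct a σ ≫ FinFr.extHom K a g w = FinFr.extHom K a g w ≫ FinFr.galAct b σ := by
  have h1 : FinFr.extHom K a g w ≫ pullback.snd b (FinFr.specι k K) = pullback.snd a (FinFr.specι k K) :=
    (pullback.lift_snd _ _ _).trans (Category.comp_id _)
  apply pullback.hom_ext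
  · rw [Category.assoc, Category.assoc]
    have e1 : FinFr.extHom K a g w ≫ pullback.fst b (FinFr.specι k K) = pullback.fst a (FinFr.specι k K) ≫ g :=
      FinFr.extHom_fst a g w
    have e2 : FinFr.galAct b σ ≫ pullback.fst b (FinFr.specι k K) = pullback.fst b (FinFr.specι k K) :=
      FinFr.galAct_fst b σ
    have e3 : FinFr.galAct a σ ≫ pullback.fst a (FinFr.specι k K) = pullback.fst a (FinFr.specι k K) :=
      FinFr.galAct_fst a σ
    rw [e1, e2, e1, ← Category.assoc, e3]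
  · rw [Category.assoc, Category.assoc]
    have e2 : FinFr.galAct b σ ≫ pullback.snd b (FinFr.specι k K) =
        pullback.snd b (FinFr.specι k K) ≫ Spec.map (CommRingCat.ofHom (σ : K →+* K)) := FinFr.galAct_snd b σ
    have e3 : FinFr.galAct a σ ≫ pullback.snd a (FinFr.specι k K) =
        pullback.snd a (FinFr.specι k K) ≫ Spec.map (CommRingCat.ofHom (σ : K →+* K)) := FinFr.galAct_snd a σ
    rw [h1, e2, e3, ← Category.assoc, h1]

/-- Galois twists pull back along `k`-morphisms. -/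
theorem GalTwist.pullback {Y₀ : Scheme.{u}} {b : Y₀ ⟶ Spec (CommRingCat.of k)} (g : X₀ ⟶ Y₀) (w : g ≫ b = a)
    {σ : K ≃ₐ[k] K} {c : Λ} {L L' : EtLam.Sheaf Λ Y₀} (h : GalTwist b σ c L L') :
    GalTwist a σ c (EtLam.pullback g L) (EtLam.pullback g L') :=
  TwistVia.pull (FinFr.extHom K a g w) g (FinFr.extπ K a) (FinFr.extπ K b) (FinFr.extHom_fst a g w).symm
    (FinFr.galAct b σ) (FinFr.galAct a σ) (FinFr.galAct_fst b σ) (FinFr.galAct_fst a σ)
    (galAct_extHom a g w σ) h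

theorem isPullback_extHom {Y₀ : Scheme.{u}} {b : Y₀ ⟶ Spec (CommRingCat.of k)} (g : X₀ ⟶ Y₀) (w : g ≫ b = a) :
    IsPullback (FinFr.extHom K a g w) (FinFr.extπ K a) (FinFr.extπ K b) g := by
  have h1 : FinFr.extHom K a g w ≫ pullback.snd b (FinFr.specι k K) = pullback.snd a (FinFr.specι k K) :=
    (pullback.lift_snd _ _ _).trans (Category.comp_id _)
  have h2 : IsPullback (pullback.fst b (FinFr.specι k K)) (pullback.snd b (FinFr.specι k K)) b (FinFr.specι k K) :=
    IsPullback.of_hasPullback _ _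
  have h3 : IsPullback (pullback.fst a (FinFr.specι k K)) (pullback.snd a (FinFr.specι k K)) a (FinFr.specι k K) :=
    IsPullback.of_hasPullback _ _
  refine (IsPullback.of_bot (v₂₁ := pullback.snd b (FinFr.specι k K)) (v₂₂ := b) (h₃₁ := FinFr.specι k K) ?_
    (FinFr.extHom_fst a g w).symm h2).flip
  rw [h1, w]
  exact h3

/-- Galois twists extend by zero. -/
theorem GalTwist.extZeroLam {Y₀ : Scheme.{u}} {b : Y₀ ⟶ Spec (CommRingCat.of k)} (j : X₀ ⟶ Y₀) [IsOpenImmersion j]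
    (w : j ≫ b = a) {σ : K ≃ₐ[k] K} {c : Λ} {L L' : EtLam.Sheaf Λ X₀} (h : GalTwist a σ c L L') :
    GalTwist b σ c (FinFr.extZeroLam j L) (FinFr.extZeroLam j L') := by
  have hp := isPullback_extHom (K := K) a j w
  have : IsOpenImmersion (FinFr.extHom K a j w) := MorphismProperty.of_isPullback hp.flip inferInstance
  refine TwistVia.extZeroLam j (FinFr.extπ K b) (FinFr.extHom K a j w) (FinFr.extπ K a) hp.w.symm ?_
    (FinFr.galAct b σ) (FinFr.galAct a σ) (FinFr.galAct_fst b σ) (FinFr.galAct_fst a σ)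
    (galAct_extHom a j w σ) h
  ext y
  constructor
  · rintro ⟨x, rfl⟩
    refine ⟨FinFr.extπ K a x, ?_⟩
    rw [← Scheme.Hom.comp_apply, ← Scheme.Hom.comp_apply, hp.w]
  · rintro ⟨x, hx⟩
    obtain ⟨z, hz, -⟩ := Scheme.exists_preimage_of_isPullback hp y x hx.symm
    exact ⟨z, hz⟩

end Groth.Agent.Sga4h.H912.TwistGal
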