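import Groth.Agent.Sga4h.H912.Twist
import Groth.Agent.Sga4h.H222.Twist
import Groth.Agent.Sga4h.EtaleRes

/-!
# Twist data on sections
-/

set_option autoImplicit false
universe u

open CategoryTheory CategoryTheory.Limits AlgebraicGeometry Opposite

namespace Groth.Agent.Sga4h.H912.TwistSec

open Groth.Agent.Etcore.PullCoh Groth.Agent.Sga4h.EtaleRes

section Beta

variable {U U' : Scheme.{u}} (c : U' ⟶ U) [Etale c] (s : U' ⟶ U') (w : s ≫ c = c)

/-- `W ×_{U', s} U' ⟶ W` over `U`. -/
noncomputable def bm (W : U'.Etale) :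
    (EtShriek.compEtale c).obj ((EtCoh.bc s).obj W) ⟶ (EtShriek.compEtale c).obj W :=
  MorphismProperty.Over.homMk (pullback.fst W.hom s) (by
    change pullback.fst W.hom s ≫ W.hom ≫ c = pullback.snd W.hom s ≫ c
    rw [← Category.assoc, pullback.condition, Category.assoc, w]) trivial

theorem bm_left (W : U'.Etale) : (bm c s w W).left = pullback.fst W.hom s := rfl

theorem bm_nat {W W' : U'.Etale} (g : W' ⟶ W) :
    bm c s w W' ≫ (EtShriek.compEtale c).map g =
      (EtShriek.compEtale c).map ((EtCoh.bc s).map g) ≫ bm c s w W := by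
  apply MorphismProperty.Over.Hom.ext
  change pullback.fst W'.hom s ≫ g.left = ((EtCoh.bc s).map g).left ≫ pullback.fst W.hom s
  exact (pullback.lift_fst _ _ _).symm

/-- `R_c F ⟶ s_* R_c F`. -/
noncomputable def beta (F : EtCoh.Ab U) [EtShriek.JCont c] :
    (EtShriek.restrAlong c).obj F ⟶ (EtCoh.push s).obj ((EtShriek.restrAlong c).obj F) where
  hom :=
    { app := fun W => F.obj.map (bm c s w W.unop).op
      naturality := fun W W' g => by
        have h := congrArg (fun k => F.obj.map k.op) (bm_nat c s w g.unop)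
        simp only [op_comp, F.obj.map_comp] at h
        exact h }

theorem beta_app (F : EtCoh.Ab U) [EtShriek.JCont c] (W : U'.Etale)
    (x : EtCoh.sect ((EtShriek.restrAlong c).obj F) W) :
    (beta c s w F).hom.app (op W) x = F.obj.map (bm c s w W).op x := rfl

/-- `pull c F ⟶ s_* pull c F` transposed from `th`. -/
noncomputable def theta' (F : EtCoh.Ab U) :
    (EtCoh.pull c).obj F ⟶ (EtCoh.push s).obj ((EtCoh.pull c).obj F) :=
  (EtCoh.pullPushAdj s).unit.app _ ≫ (EtCoh.push s).map (th s c c w F)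

variable [EtShriek.JCont c]

theorem theta_beta (F : EtCoh.Ab U) :
    theta' c s w F ≫ (EtCoh.push s).map ((pullIsoRestr c).hom.app F) =
      (pullIsoRestr c).hom.app F ≫ beta c s w F := by
  refine pull_hom_ext c _ _ fun V g => ?_
  have h1 : ∀ (V : U.Etale) (g : EtCoh.sect F V), ((pullIsoRestr c).hom.app F).hom.app (op ((EtCoh.bc c).obj V))
      (eta c F V g) = F.obj.map ((compBcAdj c).counit.app V).op g := fun V g =>
    congrArg (fun k => k g) (unit_app_comp c F (op V))
  have h2 : (theta' c s w F ≫ (EtCoh.push s).map ((pullIsoRestr c).hom.app F)).hom.app (op ((EtCoh.bc c).obj V))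
      (eta c F V g) = ((pullIsoRestr c).hom.app F).hom.app (op ((EtCoh.bc s).obj ((EtCoh.bc c).obj V)))
        ((th s c c w F).hom.app _ (eta s _ _ (eta c F V g))) := rfl
  have h3 : ((pullIsoRestr c).hom.app F ≫ beta c s w F).hom.app (op ((EtCoh.bc c).obj V)) (eta c F V g) =
      F.obj.map (bm c s w ((EtCoh.bc c).obj V)).op
        (((pullIsoRestr c).hom.app F).hom.app (op ((EtCoh.bc c).obj V)) (eta c F V g)) := rfl
  rw [h2, h3, h1, th_unit, map_res, h1]
  have h4 : ∀ (x : EtCoh.sect F V), ((EtShriek.restrAlong c).obj F).obj.map (bcComp s c c w V).op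
      (F.obj.map ((compBcAdj c).counit.app V).op x) =
      F.obj.map ((EtShriek.compEtale c).map (bcComp s c c w V) ≫ (compBcAdj c).counit.app V).op x := fun x =>
    (res_comp F ((compBcAdj c).counit.app V) ((EtShriek.compEtale c).map (bcComp s c c w V)) x).symm
  have h5 : ∀ (x : EtCoh.sect F V), F.obj.map (bm c s w ((EtCoh.bc c).obj V)).op
      (F.obj.map ((compBcAdj c).counit.app V).op x) =
      F.obj.map (bm c s w ((EtCoh.bc c).obj V) ≫ (compBcAdj c).counit.app V).op x := fun x =>
    (res_comp F ((compBcAdj c).counit.app V) (bm c s w ((EtCoh.bc c).obj V)) x).symm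
  rw [h4, h5]
  congr 3
  apply congrArg Quiver.Hom.op
  apply MorphismProperty.Over.Hom.ext
  exact bcComp_left_fst s c c w V

end Beta

section Tw

open Groth.Agent.Sga4h.H222.Twist Groth.Agent.Sga4h.H912.Twist

variable {Λ : Type} [CommRing Λ] {U U' : Scheme.{u}} {c : U' ⟶ U} [Etale c] {s : U' ⟶ U'} (w : s ≫ c = c) {ζ : Λ}
  {L L' : EtLam.Sheaf Λ U} (D : TwData c s ζ L L')

omit [Etale c] in
theorem φ_congr (V : U.Etale) {t t' : V.left ⟶ U'} (e : t = t') (h : t ≫ c = V.hom) (h' : t' ≫ c = V.hom)
    (x : L.carrier.obj.obj (op V)) : D.φ V t h x = D.φ V t' h' x := by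
  subst e; rfl

variable [EtShriek.JCont c]

/-- The isomorphism of restrictions. -/
noncomputable def Phi : (EtShriek.restrAlong c).obj L.carrier ≅ (EtShriek.restrAlong c).obj L'.carrier where
  hom :=
    { hom :=
      { app := fun W => AddCommGrpCat.ofHom (D.φ ((EtShriek.compEtale c).obj W.unop) W.unop.hom rfl).toAddMonoidHom
        naturality := fun W W' g => by
          ext x
          refine (φ_congr D ((EtShriek.compEtale c).obj W'.unop) (MorphismProperty.Over.w g.unop).symm rfl
            (by rw [MorphismProperty.Over.w g.unop]; rfl) _).trans ?_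
          exact D.nat ((EtShriek.compEtale c).map g.unop) W.unop.hom rfl _ x } }
  inv :=
    { hom :=
      { app := fun W => AddCommGrpCat.ofHom (D.φ ((EtShriek.compEtale c).obj W.unop) W.unop.hom rfl).symm.toAddMonoidHom
        naturality := fun W W' g => by
          ext x
          change (D.φ ((EtShriek.compEtale c).obj W'.unop) W'.unop.hom rfl).symm
            (L'.carrier.obj.map ((EtShriek.compEtale c).map g.unop).op x) =
            L.carrier.obj.map ((EtShriek.compEtale c).map g.unop).op
              ((D.φ ((EtShriek.compEtale c).obj W.unop) W.unop.hom rfl).symm x)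
          rw [AddEquiv.symm_apply_eq]
          refine Eq.symm ((φ_congr D ((EtShriek.compEtale c).obj W'.unop) (MorphismProperty.Over.w g.unop).symm rfl
            (by rw [MorphismProperty.Over.w g.unop]; rfl) _).trans ?_)
          refine (D.nat ((EtShriek.compEtale c).map g.unop) W.unop.hom rfl _ _).trans ?_
          rw [AddEquiv.apply_symm_apply] } }
  hom_inv_id := by
    ext W x
    exact (D.φ ((EtShriek.compEtale c).obj W.unop) W.unop.hom rfl).symm_apply_apply x
  inv_hom_id := by
    ext W x
    exact (D.φ ((EtShriek.compEtale c).obj W.unop) W.unop.hom rfl).apply_symm_apply x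

theorem Phi_app (W : U'.Etale) (x : EtCoh.sect ((EtShriek.restrAlong c).obj L.carrier) W) :
    (Phi D).hom.hom.app (op W) x = D.φ ((EtShriek.compEtale c).obj W) W.hom rfl x := rfl

theorem Phi_lin (r : Λ) : (EtShriek.restrAlong c).map (L.act r : L.carrier ⟶ L.carrier) ≫ (Phi D).hom =
    (Phi D).hom ≫ (EtShriek.restrAlong c).map (L'.act r : L'.carrier ⟶ L'.carrier) := by
  ext W x
  exact D.lin ((EtShriek.compEtale c).obj W.unop) W.unop.hom rfl r x

theorem Phi_beta : (Phi D).hom ≫ beta c s w L'.carrier =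
    beta c s w L.carrier ≫ (EtCoh.push s).map ((Phi D).hom ≫
      (EtShriek.restrAlong c).map (L'.act ζ : L'.carrier ⟶ L'.carrier)) := by
  ext W x
  change L'.carrier.obj.map (bm c s w W.unop).op (D.φ ((EtShriek.compEtale c).obj W.unop) W.unop.hom rfl x) =
    (L'.act ζ).hom.app _ (D.φ ((EtShriek.compEtale c).obj ((EtCoh.bc s).obj W.unop)) ((EtCoh.bc s).obj W.unop).hom rfl
      (L.carrier.obj.map (bm c s w W.unop).op x))
  have e : (bm c s w W.unop).left ≫ W.unop.hom = ((EtCoh.bc s).obj W.unop).hom ≫ s := pullback.condition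
  have h0 : ((bm c s w W.unop).left ≫ W.unop.hom) ≫ c = ((EtShriek.compEtale c).obj ((EtCoh.bc s).obj W.unop)).hom :=
    (congrArg (fun k => k ≫ c) e).trans ((Category.assoc _ _ _).trans
      (congrArg (fun k => ((EtCoh.bc s).obj W.unop).hom ≫ k) w))
  have h1 := D.nat (bm c s w W.unop) W.unop.hom rfl h0 x
  rw [← h1]
  refine (φ_congr D _ e h0 (by rw [← e]; exact h0) _).trans ?_
  exact D.tw _ _ rfl _ _

include D in
theorem twistVia_aux : TwistVia c s w ζ L L' := by
  let ι := pullIsoRestr c
  let φ : (EtCoh.pull c).obj L.carrier ≅ (EtCoh.pull c).obj L'.carrier :=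
    ι.app L.carrier ≪≫ Phi D ≪≫ (ι.app L'.carrier).symm
  have hφ : φ.hom ≫ ι.hom.app L'.carrier = ι.hom.app L.carrier ≫ (Phi D).hom := by
    simp [φ]
  have hι : ∀ (F F' : EtCoh.Ab U) (f : F ⟶ F'), (EtCoh.pull c).map f ≫ ι.hom.app F' =
      ι.hom.app F ≫ (EtShriek.restrAlong c).map f := fun F F' f => ι.hom.naturality f
  refine ⟨φ, fun r => ?_, ?_⟩
  · rw [← cancel_mono (ι.hom.app L'.carrier), Category.assoc, hφ, ← Category.assoc, hι, Category.assoc, Phi_lin,
      Category.assoc, hι, ← Category.assoc, ← Category.assoc, hφ]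
  · -- transpose along `s⁻¹ ⊣ s_*`
    apply ((EtCoh.pullPushAdj s).homEquiv _ _).injective
    rw [Adjunction.homEquiv_unit, Adjunction.homEquiv_unit]
    have h1 : (EtCoh.pullPushAdj s).unit.app _ ≫ (EtCoh.push s).map ((EtCoh.pull s).map φ.hom ≫ th s c c w L'.carrier) =
        φ.hom ≫ theta' c s w L'.carrier := by
      rw [Functor.map_comp, ← Category.assoc]
      have h := (EtCoh.pullPushAdj s).unit.naturality φ.hom
      have h' : (EtCoh.pullPushAdj s).unit.app ((EtCoh.pull c).obj L.carrier) ≫ (EtCoh.push s).map ((EtCoh.pull s).map φ.hom) =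
        φ.hom ≫ (EtCoh.pullPushAdj s).unit.app ((EtCoh.pull c).obj L'.carrier) := h.symm
      rw [h', Category.assoc]; rfl
    have h2 : (EtCoh.pullPushAdj s).unit.app _ ≫ (EtCoh.push s).map (th s c c w L.carrier ≫ φ.hom ≫
        (EtCoh.pull c).map (L'.act ζ)) = theta' c s w L.carrier ≫ (EtCoh.push s).map (φ.hom ≫ (EtCoh.pull c).map (L'.act ζ)) := by
      rw [Functor.map_comp, ← Category.assoc]; rfl
    rw [h1, h2]
    have h3 := theta_beta c s w L.carrier
    have h4 := theta_beta c s w L'.carrier
    have h5 : IsIso ((EtCoh.push s).map (ι.hom.app L'.carrier)) := inferInstance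
    rw [← cancel_mono ((EtCoh.push s).map (ι.hom.app L'.carrier)), Category.assoc, Category.assoc, h4,
      ← Category.assoc, hφ, Category.assoc, Phi_beta w D, ← Functor.map_comp, Category.assoc, hι,
      ← Category.assoc φ.hom, hφ, Category.assoc, Functor.map_comp (EtCoh.push s) (ι.hom.app L.carrier),
      ← Category.assoc (theta' c s w L.carrier), h3, Category.assoc]

end Tw

/-- **Twist data on sections give twist data.** -/
theorem twistVia_of_twData {Λ : Type} [CommRing Λ] {U U' : Scheme.{u}} (c : U' ⟶ U) [Etale c] (s : U' ⟶ U')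
    (w : s ≫ c = c) (ζ : Λ) (L L' : EtLam.Sheaf Λ U) (D : H222.Twist.TwData c s ζ L L') :
    H912.Twist.TwistVia c s w ζ L L' :=
  have := jCont c
  twistVia_aux w D

end Groth.Agent.Sga4h.H912.TwistSec
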