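import Groth.Agent.CohqB.ProjBC
import Groth.Agent.Sga5.ProjSmooth
import Groth.Agent.Dix.ProjProper
import Mathlib.FieldTheory.Finite.Extension
import Mathlib.FieldTheory.IsAlgClosed.Basic

/-!
# Geometry of the projective line over a field; finite extensions of given degree inside an algebraic closure
-/

set_option autoImplicit false
universe u
open CategoryTheory CategoryTheory.Limits AlgebraicGeometry Opposite

namespace Groth.Agent.Sga4h.H912.P1Irr

open CohB1 CohqB.ProjBC

section Irr

variable (n : ℕ) (A : Type u) [CommRing A]

/-- The generic point. -/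
noncomputable def gen [IsDomain A] : ProjSpace n A where
  asHomogeneousIdeal := ⊥
  isPrime := by
    change (⊥ : Ideal (MvPolynomial (Fin (n + 1)) A)).IsPrime
    exact Ideal.isPrime_bot
  not_irrelevant_le := by
    intro h
    have h1 : (MvPolynomial.X 0 : MvPolynomial (Fin (n + 1)) A) ∈
        (HomogeneousIdeal.irrelevant (polyGrading n A)) := by
      rw [HomogeneousIdeal.mem_irrelevant_iff]
      exact DirectSum.decompose_of_mem_ne (polyGrading n A) (X_mem (A := A) n (0 : Fin (n + 1))) one_ne_zero
    have h2 := h h1
    exact MvPolynomial.X_ne_zero (0 : Fin (n + 1)) h2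

theorem irreducibleSpace_projSpace [IsDomain A] : IrreducibleSpace (ProjSpace n A) := by
  have h : closure {gen n A} = Set.univ := by
    rw [Set.eq_univ_iff_forall]
    intro x
    refine (ProjectiveSpectrum.le_iff_mem_closure (polyGrading n A) (gen n A) x).1 ?_
    exact (ProjectiveSpectrum.as_ideal_le_as_ideal (polyGrading n A) _ _).1 bot_le
  have h2 : IsIrreducible (Set.univ : Set (ProjSpace n A)) := h ▸ isIrreducible_singleton.closure
  exact { toPreirreducibleSpace := ⟨h2.2⟩, toNonempty := ⟨gen n A⟩ }

theorem connectedSpace_of_isOpenImmersion {U X : Scheme.{u}} (j : U ⟶ X) [IsOpenImmersion j] [Nonempty U]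
    (hX : PreirreducibleSpace X) : ConnectedSpace U := by
  have h1 : IsPreirreducible (Set.range j) :=
    hX.isPreirreducible_univ.open_subset j.isOpenEmbedding.isOpen_range (Set.subset_univ _)
  have h2 : _root_.IsPreconnected (Set.range j) := h1.isPreconnected
  rw [← Set.image_univ] at h2
  have h3 : _root_.IsPreconnected (Set.univ : Set U) :=
    (j.isOpenEmbedding.isInducing.isPreconnected_image).1 h2
  exact { isPreconnected_univ := h3, toNonempty := inferInstance }

/-- A nonempty open subscheme of `P^n_A` is connected, `A` a domain. -/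
theorem connectedSpace_open [IsDomain A] {U : Scheme.{u}} (j : U ⟶ ProjSpaceOver n (Spec (CommRingCat.of A)))
    [IsOpenImmersion j] [Nonempty U] : ConnectedSpace U :=
  connectedSpace_of_isOpenImmersion (j ≫ (projSpaceOverIso n A).hom)
    (irreducibleSpace_projSpace n A).toPreirreducibleSpace

end Irr

section Smooth

theorem smooth_toBase (r : ℕ) (S : Scheme.{u}) : SmoothOfRelativeDimension r (ProjSpaceOver.toBase r S) :=
  have := smoothOfRelativeDimension_isStableUnderBaseChange.{u} r
  MorphismProperty.pullback_snd _ _ (Sga5.ProjSmooth.smooth_toSpec r (ULift.{u} ℤ))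

theorem proper_toBase (r : ℕ) (S : Scheme.{u}) : IsProper (ProjSpaceOver.toBase r S) :=
  Dix.ProjProper.isProper_toBase r S

end Smooth

/-- The extension of degree `N` of a finite field inside an algebraically closed field. -/
theorem exists_ext (k K : Type u) [Field k] [Finite k] [Field K] [Algebra k K] [IsAlgClosed K] (N : ℕ) [NeZero N] :
    ∃ (k' : Type u) (_ : Field k') (_ : Algebra k k') (_ : Module.Finite k k') (_ : k' →ₐ[k] K),
      Module.finrank k k' = N := by
  obtain ⟨p, hp⟩ := CharP.exists k
  have hpp : Fact p.Prime := ⟨CharP.char_is_prime k p⟩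
  let ι : FiniteField.Extension k p N →ₐ[k] K := IsAlgClosed.lift
  let e : FiniteField.Extension k p N ≃ₐ[k] ι.fieldRange := AlgEquiv.ofInjectiveField ι
  exact ⟨ι.fieldRange, inferInstance, inferInstance, Module.Finite.equiv e.toLinearEquiv, ι.fieldRange.val,
    e.toLinearEquiv.finrank_eq.symm.trans (FiniteField.finrank_extension k p N)⟩

end Groth.Agent.Sga4h.H912.P1Irr
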