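import Groth.Agent.Sga4h.H912.TwistFrob
import Groth.Agent.EtpbcA.PullFLC

/-!
# Inverse twists, change of the trivialising cover
-/

set_option autoImplicit false
universe u

open CategoryTheory CategoryTheory.Limits AlgebraicGeometry Opposite

namespace Groth.Agent.Sga4h.H912.TwistInv

open Groth.Agent.Etcore.PullCoh Groth.Agent.Sga4h.H912.TwistCoh Groth.Agent.Sga4h.H912.Twist
open Groth.Agent.Sga4h.H912.TwistGal Groth.Agent.Sga4h.H912.TwistFrob

/-- `pull (𝟙 X)` is faithful. -/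
theorem pull_id_injective {X : Scheme.{u}} {F G : EtCoh.Ab X} {a b : F ⟶ G}
    (h : (EtCoh.pull (𝟙 X)).map a = (EtCoh.pull (𝟙 X)).map b) : a = b := by
  have e := EtpbcA.PullFLC.pullId X
  have h1 := e.hom.naturality a
  have h2 := e.hom.naturality b
  rw [h] at h1
  have h3 : e.hom.app F ≫ a = e.hom.app F ≫ b := h1.symm.trans h2
  exact (cancel_epi (e.hom.app F)).1 h3

theorem map_th_id {X Y : Scheme.{u}} (q : Y ⟶ X) (G : EtCoh.Ab X) :
    (EtCoh.pull (𝟙 Y)).map (th (𝟙 Y) q q (Category.id_comp q) G) =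
      th (𝟙 Y) (𝟙 Y) (𝟙 Y) (Category.id_comp _) ((EtCoh.pull q).obj G) := by
  have h := th_assoc (𝟙 Y) (𝟙 Y) q (𝟙 Y) q q (Category.id_comp _) (Category.id_comp q) (Category.id_comp q)
    (Category.id_comp q) G
  exact (cancel_mono _).1 h

/-- `th 𝟙 q q` is natural for all morphisms between objects `q⁻¹G`. -/
theorem th_id_nat {X Y : Scheme.{u}} (q : Y ⟶ X) {G G' : EtCoh.Ab X}
    (f : (EtCoh.pull q).obj G ⟶ (EtCoh.pull q).obj G') :
    (EtCoh.pull (𝟙 Y)).map f ≫ th (𝟙 Y) q q (Category.id_comp q) G' =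
      th (𝟙 Y) q q (Category.id_comp q) G ≫ f := by
  apply pull_id_injective
  rw [Functor.map_comp, Functor.map_comp, map_th_id, map_th_id, th_nat]

section Obj

variable {Λ : Type*}

/-- Inverse of a twist. -/
theorem TwistObj.inv {X Y : Scheme.{u}} {q : Y ⟶ X} {s : Y ⟶ Y} (s' : Y ⟶ Y) {hs : s ≫ q = q} (hs' : s' ≫ q = q)
    (h1 : s' ≫ s = 𝟙 Y) {c : Λ} (c' : Λ) {G G' : EtCoh.Ab X} {ρ : Λ → (G ⟶ G)} {ρ' : Λ → (G' ⟶ G')}
    (hc : ρ' c ≫ ρ' c' = 𝟙 _) (h : TwistObj q s hs c ρ ρ') : TwistObj q s' hs' c' ρ ρ' := by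
  obtain ⟨φ, h2, h3⟩ := h
  refine ⟨φ, h2, ?_⟩
  have h4 : (EtCoh.pull s).map φ.hom ≫ th s q q hs G' ≫ (EtCoh.pull q).map (ρ' c') = th s q q hs G ≫ φ.hom := by
    rw [← Category.assoc, h3, Category.assoc, Category.assoc, ← Functor.map_comp, hc, CategoryTheory.Functor.map_id,
      Category.comp_id]
  have h5 := fun H : EtCoh.Ab X => th_assoc s' s q (𝟙 Y) q q h1 hs hs' (Category.id_comp q) H
  have h6 := congrArg (fun f => (EtCoh.pull s').map f ≫ th s' q q hs' G') h4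
  simp only [Functor.map_comp, Category.assoc] at h6
  rw [th_nat s' q q hs' (ρ' c'), ← Category.assoc ((EtCoh.pull s').map (th s q q hs G')), h5 G', Category.assoc,
    ← Category.assoc ((EtCoh.pull s').map ((EtCoh.pull s).map φ.hom)), th_nat s' s (𝟙 Y) h1 φ.hom, Category.assoc,
    ← Category.assoc ((EtCoh.pull (𝟙 Y)).map φ.hom), th_id_nat q φ.hom, Category.assoc,
    ← Category.assoc (th s' s (𝟙 Y) h1 _), ← h5 G, Category.assoc, cancel_epi] at h6
  exact h6.symm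

end Obj

variable {Λ : Type} [CommRing Λ]

theorem TwistVia.inv {X Y : Scheme.{u}} {q : Y ⟶ X} {s : Y ⟶ Y} (s' : Y ⟶ Y) {hs : s ≫ q = q} (hs' : s' ≫ q = q)
    (h1 : s' ≫ s = 𝟙 Y) {c c' : Λ} (hc : c' * c = 1) {L L' : EtLam.Sheaf Λ X}
    (h : TwistVia q s hs c L L') : TwistVia q s' hs' c' L L' := by
  refine TwistObj.inv s' hs' h1 c' ?_ h
  change L'.act c' * L'.act c = 1
  rw [← map_mul, hc, map_one]

theorem lamIso_pull_id {X : Scheme.{u}} (L : EtLam.Sheaf Λ X) : LamIso (EtLam.pullback (𝟙 X) L) L :=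
  ⟨(EtpbcA.PullFLC.pullId X).app L.carrier, fun r => (EtpbcA.PullFLC.pullId X).hom.naturality (L.act r)⟩

/-- Change of the trivialising cover. -/
theorem TwistVia.of_hom {X Y Y' : Scheme.{u}} (u : Y' ⟶ Y) (q' : Y' ⟶ X) (q : Y ⟶ X)
    (w : u ≫ q = q') (s : Y ⟶ Y) (s' : Y' ⟶ Y') (hs : s ≫ q = q) (hs' : s' ≫ q' = q') (hn : s' ≫ u = u ≫ s)
    {c : Λ} {L L' : EtLam.Sheaf Λ X} (h : TwistVia q s hs c L L') :
    TwistVia q' s' hs' c L L' :=
  (TwistVia.pull u (𝟙 X) q' q ((Category.comp_id _).trans w.symm) s s' hs hs' hn h).congr (lamIso_pull_id L)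
    (lamIso_pull_id L')

section Gal

variable {k : Type u} [Field k] {K : Type u} [Field K] [Algebra k K] {X₀ : Scheme.{u}}
  {a : X₀ ⟶ Spec (CommRingCat.of k)}

theorem galAct_comp_symm (σ : K ≃ₐ[k] K) : FinFr.galAct a σ.symm ≫ FinFr.galAct a σ = 𝟙 _ := by
  apply pullback.hom_ext
  · rw [Category.assoc]
    have e1 : ∀ τ : K ≃ₐ[k] K, FinFr.galAct a τ ≫ pullback.fst a (FinFr.specι k K) = pullback.fst a (FinFr.specι k K) :=
      fun τ => FinFr.galAct_fst a τ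
    rw [e1, e1, Category.id_comp]
  · rw [Category.assoc]
    have e2 : ∀ τ : K ≃ₐ[k] K, FinFr.galAct a τ ≫ pullback.snd a (FinFr.specι k K) =
        pullback.snd a (FinFr.specι k K) ≫ Spec.map (CommRingCat.ofHom (τ : K →+* K)) := fun τ => FinFr.galAct_snd a τ
    rw [e2, ← Category.assoc, e2, Category.assoc, ← Spec.map_comp, Category.id_comp]
    have e3 : CommRingCat.ofHom (σ : K →+* K) ≫ CommRingCat.ofHom (σ.symm : K →+* K) = 𝟙 _ := by
      ext x
      exact σ.symm_apply_apply x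
    rw [e3, Spec.map_id, Category.comp_id]

theorem GalTwist.inv {σ : K ≃ₐ[k] K} {c c' : Λ} (hc : c' * c = 1) {L L' : EtLam.Sheaf Λ X₀}
    (h : GalTwist a σ c L L') : GalTwist a σ.symm c' L L' :=
  TwistVia.inv (FinFr.galAct a σ.symm) (FinFr.galAct_fst a σ.symm) (galAct_comp_symm σ) hc h

/-- Twist data over any `Y ⟶ X₀` dominated by `X₀ ×_k K`, equivariantly. -/
theorem GalTwist.of_via {Y : Scheme.{u}} (q : Y ⟶ X₀) (s : Y ⟶ Y) (w : s ≫ q = q) (v : FinFr.ext K a ⟶ Y)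
    (hv : v ≫ q = FinFr.extπ K a) (σ : K ≃ₐ[k] K) (hn : FinFr.galAct a σ ≫ v = v ≫ s) {c : Λ}
    {L L' : EtLam.Sheaf Λ X₀} (h : TwistVia q s w c L L') : GalTwist a σ c L L' :=
  TwistVia.of_hom v (FinFr.extπ K a) q hv s (FinFr.galAct a σ) w (FinFr.galAct_fst a σ) hn h

end Gal

section Frob

variable {k : Type u} [Field k] [Fintype k] {K : Type u} [Field K] [Algebra k K] [Algebra.IsAlgebraic k K]
  {X₀ : Scheme.{u}} {a : X₀ ⟶ Spec (CommRingCat.of k)}

/-- Twist data over `q : Y ⟶ X₀` with `id × Spec (x ↦ x^q)` above `s`: the geometric Frobenius is multiplied by the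
inverse scalar. -/
theorem FrobTwist.of_via {Y : Scheme.{u}} (q : Y ⟶ X₀) (s : Y ⟶ Y) (w : s ≫ q = q) (v : FinFr.ext K a ⟶ Y)
    (hv : v ≫ q = FinFr.extπ K a) (hn : FinFr.galAct a (FinFr.arith k K) ≫ v = v ≫ s) {c c' : Λ} (hc : c' * c = 1)
    {L L' : EtLam.Sheaf Λ X₀} (h : TwistVia q s w c L L') : FrobTwist K a c' L L' :=
  GalTwist.inv hc (GalTwist.of_via q s w v hv _ hn h)

end Frob

section Ext

variable {k : Type u} [Field k] {k' K : Type u} [Field k'] [Field K] [Algebra k k'] [Algebra k K]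
  {X₀ : Scheme.{u}} (a : X₀ ⟶ Spec (CommRingCat.of k))

/-- `X₀ ×_k K ⟶ X₀ ×_k k'` for an embedding `k' → K`. -/
noncomputable def extEmb (ι : k' →ₐ[k] K) : FinFr.ext K a ⟶ FinFr.ext k' a :=
  pullback.map a (FinFr.specι k K) a (FinFr.specι k k') (𝟙 _) (Spec.map (CommRingCat.ofHom (ι : k' →+* K))) (𝟙 _)
    (by simp) (by
      rw [Category.comp_id, FinFr.specι, ← Spec.map_comp]
      congr 1
      ext x
      exact (ι.commutes x).symm)

theorem extEmb_fst (ι : k' →ₐ[k] K) : extEmb a ι ≫ FinFr.extπ k' a = FinFr.extπ K a :=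
  (pullback.lift_fst _ _ _).trans (Category.comp_id _)

theorem extEmb_snd (ι : k' →ₐ[k] K) : extEmb a ι ≫ pullback.snd a (FinFr.specι k k') =
    pullback.snd a (FinFr.specι k K) ≫ Spec.map (CommRingCat.ofHom (ι : k' →+* K)) :=
  pullback.lift_snd _ _ _

theorem galAct_extEmb (ι : k' →ₐ[k] K) (σ : K ≃ₐ[k] K) (σ' : k' ≃ₐ[k] k') (h : ∀ x, σ (ι x) = ι (σ' x)) :
    FinFr.galAct a σ ≫ extEmb a ι = extEmb a ι ≫ FinFr.galAct a σ' := by
  apply pullback.hom_ext
  · have e1 : extEmb a ι ≫ pullback.fst a (FinFr.specι k k') = pullback.fst a (FinFr.specι k K) := extEmb_fst a ι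
    have e2 : FinFr.galAct a σ ≫ pullback.fst a (FinFr.specι k K) = pullback.fst a (FinFr.specι k K) :=
      FinFr.galAct_fst a σ
    have e3 : FinFr.galAct a σ' ≫ pullback.fst a (FinFr.specι k k') = pullback.fst a (FinFr.specι k k') :=
      FinFr.galAct_fst a σ'
    rw [Category.assoc, Category.assoc, e1, e2, e3, e1]
  · have e2 : FinFr.galAct a σ ≫ pullback.snd a (FinFr.specι k K) =
        pullback.snd a (FinFr.specι k K) ≫ Spec.map (CommRingCat.ofHom (σ : K →+* K)) := FinFr.galAct_snd a σ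
    have e3 : FinFr.galAct a σ' ≫ pullback.snd a (FinFr.specι k k') =
        pullback.snd a (FinFr.specι k k') ≫ Spec.map (CommRingCat.ofHom (σ' : k' →+* k')) := FinFr.galAct_snd a σ'
    rw [Category.assoc, Category.assoc, extEmb_snd, e3, ← Category.assoc, e2, Category.assoc, ← Spec.map_comp,
      ← Category.assoc, extEmb_snd, Category.assoc, ← Spec.map_comp]
    congr 2
    ext x
    exact h x

theorem GalTwist.extend {k' K : Type u} [Field k'] [Field K] [Algebra k k'] [Algebra k K]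
    {a : X₀ ⟶ Spec (CommRingCat.of k)} (ι : k' →ₐ[k] K) (σ : K ≃ₐ[k] K) (σ' : k' ≃ₐ[k] k') (h : ∀ x, σ (ι x) = ι (σ' x))
    {c : Λ} {L L' : EtLam.Sheaf Λ X₀} (hL : GalTwist a σ' c L L') : GalTwist a σ c L L' :=
  GalTwist.of_via (FinFr.extπ k' a) (FinFr.galAct a σ') (FinFr.galAct_fst a σ') (extEmb a ι) (extEmb_fst a ι) σ
    (galAct_extEmb a ι σ σ' h) hL

end Ext

/-- A twist over `X₀ ×_k k'` with respect to the arithmetic Frobenius of `k'` with scalar `c` is a geometric Frobenius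
twist with scalar `c⁻¹`. -/
theorem FrobTwist.of_ext {k : Type u} [Field k] [Fintype k] {k' K : Type u} [Field k'] [Algebra k k']
    [Algebra.IsAlgebraic k k'] [Field K] [Algebra k K] [Algebra.IsAlgebraic k K]
    {X₀ : Scheme.{u}} {a : X₀ ⟶ Spec (CommRingCat.of k)} (ι : k' →ₐ[k] K) {c c' : Λ} (hc : c' * c = 1)
    {L L' : EtLam.Sheaf Λ X₀} (hL : GalTwist a (FinFr.arith k k') c L L') : FrobTwist K a c' L L' :=
  GalTwist.inv hc (GalTwist.extend ι (FinFr.arith k K) (FinFr.arith k k') (fun x => by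
    rw [FiniteField.coe_frobeniusAlgEquivOfAlgebraic, FiniteField.coe_frobeniusAlgEquivOfAlgebraic, map_pow]) hL)

end Groth.Agent.Sga4h.H912.TwistInv
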