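import Groth.Agent.Sga4h.H912.DetAlg
import Groth.Agent.Sga4h.H912.TwistInv
import Groth.Agent.Sga4h.H912.CoeffFrob

/-!
# The defect of the L-function formula modulo `T^(N+1)`: twists and extension of coefficients
-/

set_option autoImplicit false
universe u w w'

open CategoryTheory CategoryTheory.Limits AlgebraicGeometry Opposite

namespace Groth.Agent.Sga4h.H912.DetDefect

open Groth.Agent.Sga4h.H925.Defs Groth.Agent.Sga4h.H925.Inv Groth.Agent.Sga4h.H925.DetInv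
open Groth.Agent.Sga4h.H912.TwistFrob Groth.Agent.Sga4h.H912.CoeffSheaf Groth.Agent.Sga4h.H912.DetAlg

variable {k : Type u} [Field k] [Fintype k] {K : Type u} [Field K] [Algebra k K] [Algebra.IsAlgebraic k K]
  [Fact FinFr.PullExact.{u}] {P : Scheme.{u}} {b : P ⟶ Spec (CommRingCat.of k)}

section Map

variable {Λ Λ₂ : Type} [Field Λ] [Field Λ₂] {A : Type w} [AddCommGroup A] {B : Type w'} [AddCommGroup B]
  {χ : Inv.{u + 1} Λ A} {χ₂ : Inv.{u + 1} Λ₂ B} {t : A →+ B} (ht : Function.Injective t)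
  {L : EtLam.Sheaf Λ P} {L₂ : EtLam.Sheaf Λ₂ P}

include ht

theorem glob_map (h : ∀ n, χ₂.val (HK K b L₂ n) (frobK K b L₂ n) = t (χ.val (HK K b L n) (frobK K b L n))) :
    glob K χ₂ b L₂ = t (glob K χ b L) := by
  have h1 := AddMonoidHom.map_finsum_of_injective t ht
    (fun n : ℕ => (-1 : ℤ) ^ n • χ.val (HK K b L n) (frobK K b L n))
  refine Eq.trans ?_ h1.symm
  refine finsum_congr fun n => ?_
  rw [map_zsmul, h n]

theorem loc_map (N : ℕ) (h : ∀ x : P, locV K χ₂ b x L₂ = t (locV K χ b x L)) :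
    loc K χ₂ b N L₂ = t (loc K χ b N L) := by
  unfold loc
  have h1 := AddMonoidHom.map_finsum_of_injective t ht
    (fun x : {x : FinFr.ClosedPt P // FinFr.ptDeg b x.1 ≤ N} => locV K χ b x.1.1 L)
  refine Eq.trans ?_ h1.symm
  exact finsum_congr fun x => h x.1.1

theorem defect_map (N : ℕ)
    (hg : ∀ n, χ₂.val (HK K b L₂ n) (frobK K b L₂ n) = t (χ.val (HK K b L n) (frobK K b L n)))
    (hl : ∀ x : P, locV K χ₂ b x L₂ = t (locV K χ b x L)) :
    defect K χ₂ b N L₂ = t (defect K χ b N L) := by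
  unfold defect
  rw [glob_map ht hg, loc_map ht N hl, map_sub]

end Map

section Twist

variable {Λ : Type} [Field Λ] {c : Λ} {L L' : EtLam.Sheaf Λ P}

theorem val_twist {X₀ : Scheme.{u}} {a : X₀ ⟶ Spec (CommRingCat.of k)} {L L' : EtLam.Sheaf Λ X₀} (M : ℕ)
    (h : FrobTwist K a c L L') (n : ℕ) :
    (detInvN Λ M).val (HK K a L' n) (frobK K a L' n) = rs M c ((detInvN Λ M).val (HK K a L n) (frobK K a L n)) := by
  obtain ⟨e, he⟩ := h.exists_equiv n
  exact rs_val M e _ _ c he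

theorem defect_twist (M N : ℕ) (hc : c ≠ 0) (h : FrobTwist K b c L L') :
    defect K (detInvN Λ M) b N L' = rs M c (defect K (detInvN Λ M) b N L) := by
  have hl : ∀ x : P, locV K (detInvN Λ M) b x L' = rs M c (locV K (detInvN Λ M) b x L) := fun x =>
    val_twist M (FrobTwist.pullback (P.fromSpecResidueField x) rfl h) 0
  exact defect_map (χ := detInvN Λ M) (χ₂ := detInvN Λ M) (t := rs M c) (L := L) (L₂ := L') (rs_injective M hc) N
    (fun n => val_twist M h n) hl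

end Twist

section Ext

variable {Λ Λ₂ : Type} [Field Λ] [Field Λ₂] [Algebra Λ Λ₂]
variable {L : EtLam.Sheaf Λ P} {L₂ : EtLam.Sheaf Λ₂ P} {s : L.carrier ⟶ L₂.carrier}

theorem val_ext {X₀ : Scheme.{u}} {a : X₀ ⟶ Spec (CommRingCat.of k)} {L : EtLam.Sheaf Λ X₀} {L₂ : EtLam.Sheaf Λ₂ X₀}
    {s : L.carrier ⟶ L₂.carrier} (M : ℕ) (h : IsExtSh L L₂ s) (n : ℕ) :
    (detInvN Λ₂ M).val (HK K a L₂ n) (frobK K a L₂ n) =
      ex Λ Λ₂ M ((detInvN Λ M).val (HK K a L n) (frobK K a L n)) :=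
  ex_val M _ _ (H157.ConstExt.charRev_frob a h n)

theorem defect_ext (M N : ℕ) (h : IsExtSh L L₂ s) :
    defect K (detInvN Λ₂ M) b N L₂ = ex Λ Λ₂ M (defect K (detInvN Λ M) b N L) := by
  have hl : ∀ x : P, locV K (detInvN Λ₂ M) b x L₂ = ex Λ Λ₂ M (locV K (detInvN Λ M) b x L) := fun x =>
    val_ext M (h.pullback (P.fromSpecResidueField x)) 0
  exact defect_map (χ := detInvN Λ M) (χ₂ := detInvN Λ₂ M) (t := ex Λ Λ₂ M) (L := L) (L₂ := L₂) (ex_injective M) N
    (fun n => val_ext M h n) hl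

end Ext

end Groth.Agent.Sga4h.H912.DetDefect
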