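import Mathlib.NumberTheory.Cyclotomic.Basic
import Mathlib.Algebra.CharP.CharAndCard

/-!
# Adjoining roots of unity to a finite field of coefficients
-/

set_option autoImplicit false

namespace Groth.Agent.Sga4h.H912.CoeffRoot

/-- For `N₀ > 0` there is a finite extension of the finite field `Λ` with a primitive `N`-th root of unity, where
`N₀ ∣ ℓ^a N`, `ℓ = char Λ`. -/
theorem exists_coeff (Λ : Type) [Field Λ] [Finite Λ] (N₀ : ℕ) (hN₀ : 0 < N₀) :
    ∃ (N : ℕ) (_ : NeZero N) (a : ℕ) (Λ₂ : Type) (_ : Field Λ₂) (_ : Algebra Λ Λ₂) (_ : Module.Finite Λ Λ₂)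
      (_ : Finite Λ₂) (ζ : Λ₂), IsPrimitiveRoot ζ N ∧ N₀ ∣ ringChar Λ ^ a * N := by
  have hp : (ringChar Λ).Prime := CharP.char_is_prime Λ (ringChar Λ)
  obtain ⟨a, N, hN, hNe⟩ := Nat.exists_eq_pow_mul_and_not_dvd hN₀.ne' (ringChar Λ) hp.ne_one
  have hN0 : N ≠ 0 := by
    rintro rfl
    exact hN (dvd_zero _)
  have hne : NeZero N := ⟨hN0⟩
  have hne' : NeZero ((N : ℕ) : Λ) := ⟨by
    rw [Ne, ringChar.spec]
    exact hN⟩
  have h1 : IsCyclotomicExtension {N} Λ (CyclotomicField N Λ) := CyclotomicField.isCyclotomicExtension N Λ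
  have h2 : Module.Finite Λ (CyclotomicField N Λ) := IsCyclotomicExtension.finite {N} Λ (CyclotomicField N Λ)
  obtain ⟨ζ, hζ⟩ := IsCyclotomicExtension.exists_isPrimitiveRoot Λ (CyclotomicField N Λ) (Set.mem_singleton N) hN0
  exact ⟨N, hne, a, CyclotomicField N Λ, inferInstance, inferInstance, h2, Module.finite_of_finite Λ, ζ, hζ,
    hNe ▸ dvd_rfl⟩

end Groth.Agent.Sga4h.H912.CoeffRoot
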