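import Groth.Agent.Sga4h.H912.CoeffSheaf
import Groth.Agent.Etrest.ConstBasic

/-!
# Extension of coefficients: constant and finite locally constant sheaves
-/

set_option autoImplicit false
universe u

open CategoryTheory CategoryTheory.Limits AlgebraicGeometry Opposite

namespace Groth.Agent.Sga4h.H912.ExtConst

open Groth.Agent.Sga4h.H912.CoeffExt Groth.Agent.Sga4h.H912.CoeffSheaf

universe w v' u'

section Cat

variable {D : Type u'} [Category.{v'} D] [Preadditive D]

/-- A `d`-fold direct sum of `Φ(M)` is `Φ(M^d)`. -/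
theorem exists_iso_pi (Φ : AddCommGrpCat.{w} ⥤ D) [Φ.Additive] {A A₂ : D} {d : ℕ} (s : Fin d → (A ⟶ A₂))
    (p : Fin d → (A₂ ⟶ A)) (h1 : ∀ i j, s i ≫ p j = if i = j then 𝟙 A else 0) (h2 : ∑ i, p i ≫ s i = 𝟙 A₂)
    (M : Type w) [AddCommGroup M] (e : A ≅ Φ.obj (AddCommGrpCat.of M)) :
    Nonempty (A₂ ≅ Φ.obj (AddCommGrpCat.of (Fin d → M))) := by
  let σ : Fin d → (AddCommGrpCat.of M ⟶ AddCommGrpCat.of (Fin d → M)) := fun i =>
    AddCommGrpCat.ofHom (AddMonoidHom.single (fun _ => M) i)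
  let π : Fin d → (AddCommGrpCat.of (Fin d → M) ⟶ AddCommGrpCat.of M) := fun i =>
    AddCommGrpCat.ofHom (Pi.evalAddMonoidHom (fun _ => M) i)
  have hσπ : ∀ i j, σ i ≫ π j = if i = j then 𝟙 _ else 0 := fun i j => by
    split_ifs with h
    · subst h
      ext x
      simp [σ, π]
    · ext x
      simp [σ, π, Ne.symm h]
  have hsum : ∑ i, π i ≫ σ i = 𝟙 _ := by
    apply AddCommGrpCat.hom_ext
    apply AddMonoidHom.ext
    intro x
    funext i
    have h3 : ∀ t : Finset (Fin d), (∑ i ∈ t, π i ≫ σ i).hom x = ∑ i ∈ t, (π i ≫ σ i).hom x := fun t => by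
      classical
      induction t using Finset.induction_on with
      | empty => rfl
      | insert a t ha ih => rw [Finset.sum_insert ha, Finset.sum_insert ha, ← ih]; rfl
    change (∑ i, π i ≫ σ i).hom x i = x i
    rw [h3, Finset.sum_apply]
    have h4 : ∀ j, (π j ≫ σ j).hom x i = if j = i then x i else 0 := fun j => by
      change (Pi.single j (x j) : Fin d → M) i = _
      rw [Pi.single_apply]
      by_cases hij : j = i
      · subst hij; simp
      · rw [if_neg hij, if_neg (Ne.symm hij)]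
    simp only [h4]
    simp
  refine ⟨⟨∑ i, p i ≫ e.hom ≫ Φ.map (σ i), ∑ i, Φ.map (π i) ≫ e.inv ≫ s i, ?_, ?_⟩⟩
  · rw [Preadditive.sum_comp]
    have h5 : ∀ i, (p i ≫ e.hom ≫ Φ.map (σ i)) ≫ ∑ j, Φ.map (π j) ≫ e.inv ≫ s j = p i ≫ s i := fun i => by
      rw [Preadditive.comp_sum]
      have h6 : ∀ j, (p i ≫ e.hom ≫ Φ.map (σ i)) ≫ Φ.map (π j) ≫ e.inv ≫ s j =
          if i = j then p i ≫ s i else 0 := fun j => by
        have h7 : (p i ≫ e.hom ≫ Φ.map (σ i)) ≫ Φ.map (π j) ≫ e.inv ≫ s j =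
            p i ≫ e.hom ≫ Φ.map (σ i ≫ π j) ≫ e.inv ≫ s j := by
          simp only [Φ.map_comp, Category.assoc]
        rw [h7, hσπ]
        split_ifs with h
        · subst h; simp
        · simp
      simp only [h6]
      simp
    simp only [h5]
    exact h2
  · rw [Preadditive.sum_comp]
    have h5 : ∀ i, (Φ.map (π i) ≫ e.inv ≫ s i) ≫ ∑ j, p j ≫ e.hom ≫ Φ.map (σ j) = Φ.map (π i ≫ σ i) := fun i => by
      rw [Preadditive.comp_sum]
      have h6 : ∀ j, (Φ.map (π i) ≫ e.inv ≫ s i) ≫ p j ≫ e.hom ≫ Φ.map (σ j) =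
          if i = j then Φ.map (π i ≫ σ i) else 0 := fun j => by
        have h7 : (Φ.map (π i) ≫ e.inv ≫ s i) ≫ p j ≫ e.hom ≫ Φ.map (σ j) =
            Φ.map (π i) ≫ e.inv ≫ (s i ≫ p j) ≫ e.hom ≫ Φ.map (σ j) := by
          simp only [Category.assoc]
        rw [h7, h1]
        split_ifs with h
        · subst h; simp
        · simp
      simp only [h6]
      simp
    simp only [h5]
    rw [← Φ.map_sum, hsum, Φ.map_id]

end Cat

variable {Λ Λ₂ : Type} [CommRing Λ] [CommRing Λ₂] [Algebra Λ Λ₂]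

theorem exists_decomp {X : Scheme.{u}} {L : EtLam.Sheaf Λ X} {L₂ : EtLam.Sheaf Λ₂ X} {s : L.carrier ⟶ L₂.carrier}
    (h : IsExtSh L L₂ s) : ∃ (d : ℕ) (t : Fin d → (L.carrier ⟶ L₂.carrier)) (p : Fin d → (L₂.carrier ⟶ L.carrier)),
      (∀ i j, t i ≫ p j = if i = j then 𝟙 _ else 0) ∧ ∑ i, p i ≫ t i = 𝟙 _ := by
  obtain ⟨d, b, p, h1, h2⟩ := h.ex
  exact ⟨d, fun i => s ≫ L₂.act (b i), p, h1, h2⟩

theorem of_ulift_pi (M : Type) [AddCommGroup M] (d : ℕ) :
    Nonempty (AddCommGrpCat.of (Fin d → ULift.{u + 1} M) ≅ AddCommGrpCat.of (ULift.{u + 1} (Fin d → M))) :=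
  ⟨AddEquiv.toAddCommGrpIso
    { toFun := fun f => ULift.up fun i => (f i).down
      invFun := fun f i => ULift.up (f.down i)
      left_inv := fun _ => rfl
      right_inv := fun _ => rfl
      map_add' := fun _ _ => rfl }⟩

theorem additive_constantSheaf {C : Type u'} [Category.{v'} C] (J : GrothendieckTopology C)
    [HasSheafify J AddCommGrpCat.{w}] : (constantSheaf J AddCommGrpCat.{w}).Additive := by
  unfold constantSheaf
  infer_instance

/-- Constant over `V` implies constant over `V` after extension of coefficients. -/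
theorem const_of_ext {U V : Scheme.{u}} {L : EtLam.Sheaf Λ U} {L₂ : EtLam.Sheaf Λ₂ U} {s : L.carrier ⟶ L₂.carrier}
    (h : IsExtSh L L₂ s) (q : V ⟶ U) (M : Type) [AddCommGroup M] [Finite M]
    (e : (EtCoh.pull q).obj L.carrier ≅ EtCoh.const V M) :
    ∃ (M' : Type) (_ : AddCommGroup M') (_ : Finite M'), Nonempty ((EtCoh.pull q).obj L₂.carrier ≅ EtCoh.const V M') := by
  obtain ⟨d, t, p, h1, h2⟩ := exists_decomp (h.pullback q)
  have hadd : (constantSheaf V.smallEtaleTopology AddCommGrpCat.{u + 1}).Additive := additive_constantSheaf _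
  obtain ⟨e1⟩ := exists_iso_pi (constantSheaf V.smallEtaleTopology AddCommGrpCat.{u + 1}) t p h1 h2 (ULift.{u + 1} M) e
  obtain ⟨e2⟩ := of_ulift_pi.{u} M d
  exact ⟨Fin d → M, inferInstance, inferInstance, ⟨e1 ≪≫ (constantSheaf _ _).mapIso e2⟩⟩

/-- Extension of coefficients of a finite locally constant sheaf. -/
theorem flc_of_ext {U : Scheme.{u}} {L : EtLam.Sheaf Λ U} {L₂ : EtLam.Sheaf Λ₂ U} {s : L.carrier ⟶ L₂.carrier}
    (h : IsExtSh L L₂ s) (hL : EtCoh.IsFiniteLocallyConstant L.carrier) :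
    EtCoh.IsFiniteLocallyConstant L₂.carrier := by
  obtain ⟨d, t, p, h1, h2⟩ := exists_decomp h
  obtain ⟨ι, W, hW, hM⟩ := hL
  refine ⟨ι, W, hW, fun i => ?_⟩
  obtain ⟨M, _, _, ⟨e⟩⟩ := hM i
  have hadd : (constantSheaf (U.smallEtaleTopology.over (W i)) AddCommGrpCat.{u + 1}).Additive :=
    additive_constantSheaf _
  let R := U.smallEtaleTopology.overPullback AddCommGrpCat.{u + 1} (W i)
  have hR : R.Additive := ⟨fun {_ _ _ _} => rfl⟩
  obtain ⟨e1⟩ := exists_iso_pi (constantSheaf (U.smallEtaleTopology.over (W i)) AddCommGrpCat.{u + 1})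
    (fun i => R.map (t i)) (fun i => R.map (p i)) (fun i j => by
      rw [← R.map_comp, h1]
      split_ifs <;> simp) (by
      have := congrArg (fun f => R.map f) h2
      simp only [R.map_sum, R.map_comp, R.map_id] at this
      exact this) (ULift.{u + 1} M) e
  obtain ⟨e2⟩ := of_ulift_pi.{u} M d
  exact ⟨Fin d → M, inferInstance, inferInstance, ⟨e1 ≪≫ (constantSheaf _ _).mapIso e2⟩⟩

end Groth.Agent.Sga4h.H912.ExtConst
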