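import Mathlib.CategoryTheory.Preadditive.AdditiveFunctor
import Mathlib.CategoryTheory.Endomorphism
import Mathlib.Algebra.Category.Grp.Preadditive
import Mathlib.LinearAlgebra.Basis.Defs
import Mathlib.LinearAlgebra.TensorProduct.Basis
import Mathlib.RingTheory.IsTensorProduct
import Mathlib.LinearAlgebra.Trace
import Mathlib.LinearAlgebra.Dimension.Constructions
import Mathlib.LinearAlgebra.Charpoly.BaseChange
import Mathlib.CategoryTheory.Preadditive.Biproducts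
import Mathlib.RingTheory.Norm.Defs
import Mathlib.LinearAlgebra.Matrix.ToLin

/-!
# Extension of coefficients for module objects of an additive category

`Λ ⟶ Λ₂` finite free.  A morphism `s : A ⟶ A₂` from a `Λ`-module object to a `Λ₂`-module object of a
preadditive category is a coefficient extension (`IsExt`) if it is `Λ`-linear and `A₂` is the direct sum
of the copies `b_i s(A)`, `b` a basis of `Λ₂` over `Λ`.  The notion is preserved by additive functors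
and gives `W = Λ₂ ⊗ V` for abelian groups.
-/

set_option autoImplicit false

open CategoryTheory CategoryTheory.Limits

namespace Groth.Agent.Sga4h.H912.CoeffExt

universe v u v' u' w

variable {Λ Λ₂ : Type*} [CommRing Λ] [CommRing Λ₂] [Algebra Λ Λ₂]

section Cat

variable {C : Type u} [Category.{v} C] [Preadditive C] {D : Type u'} [Category.{v'} D] [Preadditive D]

/-- `s : A ⟶ A₂` is an extension of coefficients from `Λ` to `Λ₂`. -/
structure IsExt {A A₂ : C} (ρ : Λ → (A ⟶ A)) (ρ₂ : Λ₂ → (A₂ ⟶ A₂)) (s : A ⟶ A₂) : Prop where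
  lin : ∀ r : Λ, ρ r ≫ s = s ≫ ρ₂ (algebraMap Λ Λ₂ r)
  ex : ∃ (d : ℕ) (b : Module.Basis (Fin d) Λ Λ₂) (p : Fin d → (A₂ ⟶ A)),
    (∀ i j, (s ≫ ρ₂ (b i)) ≫ p j = if i = j then 𝟙 A else 0) ∧ ∑ i, p i ≫ s ≫ ρ₂ (b i) = 𝟙 A₂

theorem IsExt.map {A A₂ : C} {ρ : Λ → (A ⟶ A)} {ρ₂ : Λ₂ → (A₂ ⟶ A₂)} {s : A ⟶ A₂}
    (h : IsExt ρ ρ₂ s) (F : C ⥤ D) [F.Additive] :
    IsExt (fun r => F.map (ρ r)) (fun r => F.map (ρ₂ r)) (F.map s) := by
  refine ⟨fun r => by rw [← F.map_comp, h.lin, F.map_comp], ?_⟩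
  obtain ⟨d, b, p, h1, h2⟩ := h.ex
  refine ⟨d, b, fun i => F.map (p i), fun i j => ?_, ?_⟩
  · rw [← F.map_comp, ← F.map_comp, h1]
    split_ifs <;> simp
  · have := congrArg (fun f => F.map f) h2
    simp only [F.map_sum, F.map_comp, F.map_id] at this
    exact this

/-- Transport along isomorphisms. -/
theorem IsExt.congr {A A₂ B B₂ : C} {ρ : Λ → (A ⟶ A)} {ρ₂ : Λ₂ → (A₂ ⟶ A₂)} {s : A ⟶ A₂}
    (h : IsExt ρ ρ₂ s) {τ : Λ → (B ⟶ B)} {τ₂ : Λ₂ → (B₂ ⟶ B₂)} (e : A ≅ B) (e₂ : A₂ ≅ B₂)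
    (he : ∀ r, ρ r ≫ e.hom = e.hom ≫ τ r) (he₂ : ∀ r, ρ₂ r ≫ e₂.hom = e₂.hom ≫ τ₂ r) :
    IsExt τ τ₂ (e.inv ≫ s ≫ e₂.hom) := by
  have hτ : ∀ r, τ r = e.inv ≫ ρ r ≫ e.hom := fun r => by rw [he, e.inv_hom_id_assoc]
  have hτ₂ : ∀ r, τ₂ r = e₂.inv ≫ ρ₂ r ≫ e₂.hom := fun r => by rw [he₂, e₂.inv_hom_id_assoc]
  refine ⟨fun r => ?_, ?_⟩
  · rw [hτ, hτ₂]
    simp only [Category.assoc, Iso.hom_inv_id_assoc]
    rw [← Category.assoc (ρ r), h.lin, Category.assoc]
  · obtain ⟨d, b, p, h1, h2⟩ := h.ex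
    refine ⟨d, b, fun i => e₂.inv ≫ p i ≫ e.hom, fun i j => ?_, ?_⟩
    · have h3 := h1 i j
      simp only [hτ₂, Category.assoc, Iso.hom_inv_id_assoc]
      rw [← Category.assoc (ρ₂ (b i)), ← Category.assoc s, ← Category.assoc s, h3]
      split_ifs <;> simp
    · simp only [hτ₂, Category.assoc, Iso.hom_inv_id_assoc]
      rw [← Preadditive.comp_sum]
      have h4 : ∀ i, p i ≫ s ≫ ρ₂ (b i) ≫ e₂.hom = (p i ≫ s ≫ ρ₂ (b i)) ≫ e₂.hom := fun i => by
        simp only [Category.assoc]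
      simp only [h4]
      rw [← Preadditive.sum_comp, h2, Category.id_comp, Iso.inv_hom_id]

/-- Two morphisms out of `A₂` agreeing on all `b_i s(A)` are equal. -/
theorem IsExt.hom_ext {A A₂ B : C} {ρ : Λ → (A ⟶ A)} {ρ₂ : Λ₂ → (A₂ ⟶ A₂)} {s : A ⟶ A₂}
    (h : IsExt ρ ρ₂ s) {f g : A₂ ⟶ B} (hfg : ∀ c, s ≫ ρ₂ c ≫ f = s ≫ ρ₂ c ≫ g) : f = g := by
  obtain ⟨d, b, p, h1, h2⟩ := h.ex
  rw [← Category.id_comp f, ← Category.id_comp g, ← h2, Preadditive.sum_comp, Preadditive.sum_comp]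
  refine Finset.sum_congr rfl fun i _ => ?_
  simp only [Category.assoc]
  rw [hfg]

/-- The universal property. -/
theorem IsExt.exists_lift {A A₂ B : C} {ρ : Λ →+* End A} {ρ₂ : Λ₂ →+* End A₂} {s : A ⟶ A₂}
    (h : IsExt (fun r => (ρ r : A ⟶ A)) (fun c => (ρ₂ c : A₂ ⟶ A₂)) s) (β : Λ₂ →+* End B) (f : A ⟶ B)
    (hf : ∀ r : Λ, ρ r ≫ f = f ≫ β (algebraMap Λ Λ₂ r)) :
    ∃ f₂ : A₂ ⟶ B, s ≫ f₂ = f ∧ ∀ c, ρ₂ c ≫ f₂ = f₂ ≫ β c := by
  obtain ⟨d, b, p, h1, h2⟩ := h.ex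
  let f₂ : A₂ ⟶ B := ∑ i, p i ≫ f ≫ β (b i)
  have hb : ∀ j, s ≫ ρ₂ (b j) ≫ f₂ = f ≫ β (b j) := fun j => by
    simp only [f₂, Preadditive.comp_sum]
    have h3 : ∀ i, s ≫ ρ₂ (b j) ≫ p i ≫ f ≫ β (b i) = if j = i then f ≫ β (b i) else 0 := fun i => by
      have h4 := h1 j i
      have h5 : s ≫ ρ₂ (b j) ≫ p i ≫ f ≫ β (b i) = ((s ≫ ρ₂ (b j)) ≫ p i) ≫ f ≫ β (b i) := by
        simp only [Category.assoc]
      rw [h5, h4]
      split_ifs <;> simp
    simp only [h3]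
    simp
  have hc : ∀ c, s ≫ ρ₂ c ≫ f₂ = f ≫ β c := fun c => by
    have e1 : c = ∑ i, algebraMap Λ Λ₂ (b.repr c i) * b i := by
      simp only [← Algebra.smul_def]
      exact (b.sum_repr c).symm
    have e2 : (ρ₂ c : A₂ ⟶ A₂) = ∑ i, ρ₂ (algebraMap Λ Λ₂ (b.repr c i)) ≫ ρ₂ (b i) := by
      conv_lhs => rw [e1, map_sum]
      refine Finset.sum_congr rfl fun i _ => ?_
      rw [mul_comm, map_mul]; rfl
    have e3 : (β c : B ⟶ B) = ∑ i, β (algebraMap Λ Λ₂ (b.repr c i)) ≫ β (b i) := by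
      conv_lhs => rw [e1, map_sum]
      refine Finset.sum_congr rfl fun i _ => ?_
      rw [mul_comm, map_mul]; rfl
    rw [e2, e3, Preadditive.sum_comp, Preadditive.comp_sum, Preadditive.comp_sum]
    refine Finset.sum_congr rfl fun i _ => ?_
    have h6 : (ρ (b.repr c i) : A ⟶ A) ≫ s = s ≫ ρ₂ (algebraMap Λ Λ₂ (b.repr c i)) := h.lin (b.repr c i)
    rw [Category.assoc, ← Category.assoc s, ← h6, Category.assoc, hb, ← Category.assoc, hf, Category.assoc]
  refine ⟨f₂, ?_, fun c => ?_⟩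
  · have h7 := hc 1
    rw [map_one, map_one, End.one_def, End.one_def, Category.id_comp, Category.comp_id] at h7
    exact h7
  · refine h.hom_ext fun c' => ?_
    have e4 : (ρ₂ c' : A₂ ⟶ A₂) ≫ ρ₂ c = ρ₂ (c * c') := by rw [map_mul]; rfl
    have e5 : (β c' : B ⟶ B) ≫ β c = β (c * c') := by rw [map_mul]; rfl
    change s ≫ ρ₂ c' ≫ ρ₂ c ≫ f₂ = s ≫ ρ₂ c' ≫ f₂ ≫ β c
    rw [← Category.assoc (ρ₂ c' : A₂ ⟶ A₂), e4, hc, ← Category.assoc (ρ₂ c' : A₂ ⟶ A₂), ← Category.assoc s, hc,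
      Category.assoc, e5]

/-- Uniqueness of the extension of coefficients. -/
theorem IsExt.exists_iso {A A₂ B₂ : C} {ρ : Λ →+* End A} {ρ₂ : Λ₂ →+* End A₂} {s : A ⟶ A₂}
    (h : IsExt (fun r => (ρ r : A ⟶ A)) (fun c => (ρ₂ c : A₂ ⟶ A₂)) s) {β : Λ₂ →+* End B₂} {t : A ⟶ B₂}
    (h' : IsExt (fun r => (ρ r : A ⟶ A)) (fun c => (β c : B₂ ⟶ B₂)) t) :
    ∃ e : A₂ ≅ B₂, s ≫ e.hom = t ∧ ∀ c, ρ₂ c ≫ e.hom = e.hom ≫ β c := by
  obtain ⟨f, hf1, hf2⟩ := h.exists_lift β t h'.lin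
  obtain ⟨g, hg1, hg2⟩ := h'.exists_lift ρ₂ s h.lin
  refine ⟨⟨f, g, h.hom_ext fun c => ?_, h'.hom_ext fun c => ?_⟩, hf1, hf2⟩
  · rw [← Category.assoc (ρ₂ c : A₂ ⟶ A₂), hf2, Category.assoc, ← Category.assoc s, hf1, hg2,
      ← Category.assoc, hg1, Category.comp_id]
  · rw [← Category.assoc (β c : B₂ ⟶ B₂), hg2, Category.assoc, ← Category.assoc t, hg1, hf2,
      ← Category.assoc, hf1, Category.comp_id]

section Exists

variable [HasFiniteBiproducts C]

theorem mat_ext {A : C} {d : ℕ} {f g : (⨁ fun _ : Fin d => A) ⟶ ⨁ fun _ : Fin d => A}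
    (h : ∀ i j, biproduct.ι _ i ≫ f ≫ biproduct.π _ j = biproduct.ι _ i ≫ g ≫ biproduct.π _ j) : f = g :=
  biproduct.hom_ext' _ _ fun i => biproduct.hom_ext _ _ fun j => by
    rw [Category.assoc, Category.assoc]; exact h i j

theorem ι_mat_π {A : C} {d : ℕ} (m : Fin d → Fin d → (A ⟶ A)) (i j : Fin d) :
    biproduct.ι (fun _ : Fin d => A) i ≫ biproduct.matrix m ≫ biproduct.π (fun _ : Fin d => A) j = m i j := by
  simp

/-- The action of `Λ₂` on the direct sum of copies of `A`. -/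
noncomputable def extAct {A : C} (ρ : Λ →+* End A) {d : ℕ} (b : Module.Basis (Fin d) Λ Λ₂) :
    Λ₂ →+* End (⨁ fun _ : Fin d => A) where
  toFun c := biproduct.matrix fun i j => (ρ (Algebra.leftMulMatrix b c j i) : A ⟶ A)
  map_one' := by
    refine mat_ext fun i j => ?_
    refine (ι_mat_π _ i j).trans ?_
    rw [map_one, End.one_def, Category.id_comp, Matrix.one_apply, biproduct.ι_π]
    by_cases h : i = j
    · subst h; simp
    · rw [dif_neg h, if_neg (fun h' => h h'.symm), map_zero]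
  map_mul' c c' := by
    refine mat_ext fun i k => ?_
    refine (ι_mat_π _ i k).trans ?_
    rw [End.mul_def]
    change _ = biproduct.ι _ i ≫ (biproduct.matrix (fun i j => (ρ (Algebra.leftMulMatrix b c' j i) : A ⟶ A)) ≫
      biproduct.matrix (fun i j => (ρ (Algebra.leftMulMatrix b c j i) : A ⟶ A))) ≫ biproduct.π _ k
    rw [Category.assoc, biproduct.matrix_π, biproduct.ι_matrix_assoc, biproduct.lift_desc, map_mul,
      Matrix.mul_apply, map_sum]
    refine Finset.sum_congr rfl fun j _ => ?_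
    rw [map_mul]; rfl
  map_zero' := by
    refine mat_ext fun i j => ?_
    refine (ι_mat_π _ i j).trans ?_
    have h0 : ((0 : End (⨁ fun _ : Fin d => A)) : (⨁ fun _ : Fin d => A) ⟶ ⨁ fun _ : Fin d => A) = 0 := rfl
    rw [map_zero, Matrix.zero_apply, map_zero, h0, zero_comp, comp_zero]
  map_add' c c' := by
    refine mat_ext fun i j => ?_
    refine (ι_mat_π _ i j).trans ?_
    change _ = biproduct.ι _ i ≫ (biproduct.matrix (fun i j => (ρ (Algebra.leftMulMatrix b c j i) : A ⟶ A)) +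
      biproduct.matrix (fun i j => (ρ (Algebra.leftMulMatrix b c' j i) : A ⟶ A))) ≫ biproduct.π _ j
    rw [Preadditive.add_comp, Preadditive.comp_add, ι_mat_π, ι_mat_π, map_add, Matrix.add_apply, map_add]

theorem exists_isExt [Nontrivial Λ] {A : C} (ρ : Λ →+* End A) [Module.Finite Λ Λ₂] [Module.Free Λ Λ₂] :
    ∃ (A₂ : C) (ρ₂ : Λ₂ →+* End A₂) (s : A ⟶ A₂),
      IsExt (fun r => (ρ r : A ⟶ A)) (fun c => (ρ₂ c : A₂ ⟶ A₂)) s := by
  let b := Module.finBasis Λ Λ₂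
  let s : A ⟶ ⨁ fun _ : Fin (Module.finrank Λ Λ₂) => A :=
    biproduct.lift fun j => (ρ (b.repr 1 j) : A ⟶ A)
  have hs : ∀ c, s ≫ extAct ρ b c = biproduct.lift fun j => (ρ (b.repr c j) : A ⟶ A) := fun c => by
    ext j
    have h1 : (extAct ρ b c : _ ⟶ _) = biproduct.matrix fun i j => (ρ (Algebra.leftMulMatrix b c j i) : A ⟶ A) := rfl
    rw [h1]
    simp only [s, Category.assoc, biproduct.matrix_π, biproduct.lift_desc, biproduct.lift_π]
    have h2 : b.repr c j = ∑ i, Algebra.leftMulMatrix b c j i * b.repr 1 i := by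
      have h3 := Algebra.leftMulMatrix_mulVec_repr b c 1
      rw [mul_one] at h3
      rw [← h3]
      rfl
    rw [h2, map_sum]
    refine Finset.sum_congr rfl fun i _ => ?_
    rw [map_mul]; rfl
  refine ⟨_, extAct ρ b, s, ?_, _, b, fun i => biproduct.π _ i, fun i j => ?_, ?_⟩
  · intro r
    change (ρ r : A ⟶ A) ≫ s = s ≫ extAct ρ b (algebraMap Λ Λ₂ r)
    rw [hs]
    ext j
    simp only [s, Category.assoc, biproduct.lift_π]
    have h4 : b.repr (algebraMap Λ Λ₂ r) j = b.repr 1 j * r := by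
      rw [Algebra.algebraMap_eq_smul_one, map_smul, Finsupp.smul_apply, smul_eq_mul, mul_comm]
    rw [h4, map_mul]; rfl
  · rw [hs, biproduct.lift_π, b.repr_self, Finsupp.single_apply]
    split_ifs <;> simp
  · simp only [hs]
    have h5 : ∀ i, (biproduct.lift fun j => (ρ (b.repr (b i) j) : A ⟶ A)) =
        biproduct.ι (fun _ : Fin (Module.finrank Λ Λ₂) => A) i := fun i => by
      ext j
      rw [biproduct.lift_π, b.repr_self, Finsupp.single_apply, biproduct.ι_π]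
      split_ifs <;> simp
    simp only [h5]
    exact biproduct.total

/-- The extension is a finite direct sum of copies of `A`. -/
theorem IsExt.nonempty_iso {A A₂ : C} {ρ : Λ → (A ⟶ A)} {ρ₂ : Λ₂ → (A₂ ⟶ A₂)} {s : A ⟶ A₂}
    (h : IsExt ρ ρ₂ s) : ∃ d : ℕ, Nonempty (A₂ ≅ ⨁ fun _ : Fin d => A) := by
  obtain ⟨d, b, p, h1, h2⟩ := h.ex
  refine ⟨d, ⟨⟨biproduct.lift p, biproduct.desc fun i => s ≫ ρ₂ (b i), ?_, ?_⟩⟩⟩
  · rw [biproduct.lift_desc]
    exact h2
  · refine biproduct.hom_ext' _ _ fun i => biproduct.hom_ext _ _ fun j => ?_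
    rw [Category.assoc, Category.assoc, biproduct.lift_π, biproduct.ι_desc_assoc, h1, Category.comp_id,
      biproduct.ι_π]
    by_cases hij : i = j
    · subst hij; simp
    · rw [if_neg hij, dif_neg hij]

end Exists

end Cat

section Mod

variable {V W : Type*} [AddCommGroup V] [AddCommGroup W] [Module Λ V] [Module Λ₂ W]

/-- The module form of `IsExt`. -/
structure IsExtMod (s : V →+ W) : Prop where
  lin : ∀ (r : Λ) (v : V), s (r • v) = algebraMap Λ Λ₂ r • s v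
  ex : ∃ (d : ℕ) (b : Module.Basis (Fin d) Λ Λ₂) (p : Fin d → (W →+ V)),
    (∀ i j v, p j (b i • s v) = if i = j then v else 0) ∧ ∀ w, ∑ i, b i • s (p i w) = w

/-- `Λ₂ ⊗ V ≃ W`. -/
theorem IsExtMod.exists_equiv {s : V →+ W} (h : IsExtMod (Λ := Λ) (Λ₂ := Λ₂) s) :
    ∃ e : TensorProduct Λ Λ₂ V ≃ₗ[Λ₂] W, ∀ (c : Λ₂) (v : V), e (c ⊗ₜ v) = c • s v := by
  let _ : Module Λ W := Module.compHom W (algebraMap Λ Λ₂)
  have _ : IsScalarTower Λ Λ₂ W := ⟨fun r c w => by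
    change (r • c) • w = algebraMap Λ Λ₂ r • (c • w)
    rw [Algebra.smul_def, mul_smul]⟩
  let s' : V →ₗ[Λ] W := { toFun := s, map_add' := map_add s, map_smul' := fun r v => h.lin r v }
  let f : TensorProduct Λ Λ₂ V →ₗ[Λ₂] W := TensorProduct.AlgebraTensorModule.lift
    { toFun := fun c => c • s'
      map_add' := fun c c' => add_smul c c' s'
      map_smul' := fun c c' => by
        ext v
        change (c * c') • s' v = c • (c' • s' v)
        rw [mul_smul] }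
  have hf : ∀ (c : Λ₂) (v : V), f (c ⊗ₜ v) = c • s v := fun c v => rfl
  obtain ⟨d, b, p, h1, h2⟩ := h.ex
  have hinj : Function.Injective f := by
    rw [← LinearMap.ker_eq_bot, LinearMap.ker_eq_bot']
    intro x hx
    -- `x = ∑ b_i ⊗ v_i`
    let e := (TensorProduct.equivFinsuppOfBasisLeft (N := V) b)
    obtain ⟨g, rfl⟩ := e.symm.surjective x
    have hx' : e.symm g = ∑ i, b i ⊗ₜ[Λ] g i := by
      rw [TensorProduct.equivFinsuppOfBasisLeft_symm_apply, Finsupp.sum_fintype]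
      intro i; simp
    have h3 : ∀ j, g j = 0 := fun j => by
      have h4 : p j (f (e.symm g)) = g j := by
        rw [hx', map_sum, map_sum]
        have : ∀ i, p j (f (b i ⊗ₜ[Λ] g i)) = if i = j then g i else 0 := fun i => by
          rw [hf, h1]
        simp only [this]
        simp
      rw [← h4, hx, map_zero]
    have h5 : g = 0 := by ext j; exact h3 j
    rw [h5, map_zero]
  have hsurj : Function.Surjective f := fun w => by
    refine ⟨∑ i, b i ⊗ₜ[Λ] p i w, ?_⟩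
    rw [map_sum]
    simp only [hf]
    exact h2 w
  exact ⟨LinearEquiv.ofBijective f ⟨hinj, hsurj⟩, hf⟩

/-- Compatibility of the equivalence `Λ₂ ⊗ V ≃ W` with endomorphisms. -/
theorem IsExtMod.exists_equiv_comp {s : V →+ W} (h : IsExtMod (Λ := Λ) (Λ₂ := Λ₂) s)
    (φ : V →ₗ[Λ] V) (ψ : W →ₗ[Λ₂] W) (hφ : ∀ v, ψ (s v) = s (φ v)) :
    ∃ e : TensorProduct Λ Λ₂ V ≃ₗ[Λ₂] W, e.conj (φ.baseChange Λ₂) = ψ := by
  obtain ⟨e, he⟩ := h.exists_equiv
  refine ⟨e, ?_⟩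
  rw [LinearEquiv.conj_apply]
  apply LinearMap.ext
  intro w
  obtain ⟨x, rfl⟩ := e.surjective w
  induction x using TensorProduct.induction_on with
  | zero => simp
  | add x y hx hy => rw [map_add, map_add, map_add, hx, hy]
  | tmul c v =>
    simp only [LinearMap.coe_comp, LinearEquiv.coe_coe, Function.comp_apply, LinearEquiv.symm_apply_apply,
      LinearMap.baseChange_tmul]
    rw [he, he, map_smul, hφ]

end Mod

section Field

variable {Λ Λ₂ : Type*} [Field Λ] [Field Λ₂] [Algebra Λ Λ₂]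
variable {V W : Type*} [AddCommGroup V] [AddCommGroup W] [Module Λ V] [Module Λ₂ W]

theorem trace_eq_zero_of_not_finite {R M : Type*} [Field R] [AddCommGroup M] [Module R M]
    (h : ¬ Module.Finite R M) (φ : M →ₗ[R] M) : LinearMap.trace R M φ = 0 := by
  rw [LinearMap.trace, dif_neg, LinearMap.zero_apply]
  rintro ⟨s, ⟨b⟩⟩
  exact h (Module.Finite.of_basis b)

theorem finite_baseChange_iff : Module.Finite Λ₂ (TensorProduct Λ Λ₂ V) ↔ Module.Finite Λ V := by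
  constructor
  · intro h
    have h1 := Module.rank_baseChange (R := Λ₂) (S := Λ) (M' := V)
    have h2 : Module.rank Λ₂ (TensorProduct Λ Λ₂ V) < Cardinal.aleph0 := Module.rank_lt_aleph0_iff.2 h
    rw [h1, Cardinal.lift_lt_aleph0] at h2
    exact Module.rank_lt_aleph0_iff.1 h2
  · intro h
    infer_instance

/-- The trace after extension of coefficients. -/
theorem IsExtMod.trace_eq {s : V →+ W} (h : IsExtMod (Λ := Λ) (Λ₂ := Λ₂) s)
    (φ : V →ₗ[Λ] V) (ψ : W →ₗ[Λ₂] W) (hφ : ∀ v, ψ (s v) = s (φ v)) :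
    LinearMap.trace Λ₂ W ψ = algebraMap Λ Λ₂ (LinearMap.trace Λ V φ) := by
  obtain ⟨e, he⟩ := h.exists_equiv_comp φ ψ hφ
  rw [← he, LinearMap.trace_conj']
  by_cases hV : Module.Finite Λ V
  · exact LinearMap.trace_baseChange φ Λ₂
  · rw [trace_eq_zero_of_not_finite hV, map_zero, trace_eq_zero_of_not_finite]
    rwa [finite_baseChange_iff]

end Field

end Groth.Agent.Sga4h.H912.CoeffExt
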