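import Groth.Agent.Sga4h.H912.CoeffExt
import Groth.Prelude.Def_FinFr
import Groth.Agent.S0101

/-!
# Extension of coefficients for etale sheaves of `Λ`-modules

`IsExtSh L L₂ s`: the `Λ₂`-sheaf `L₂` is `L ⊗_Λ Λ₂` through `s : L ⟶ L₂`.  Stability under pullback, direct
image, extension by zero; effect on cohomology and traces; existence; constructibility.
-/

set_option autoImplicit false
universe u

open CategoryTheory CategoryTheory.Limits AlgebraicGeometry Opposite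

namespace Groth.Agent.Sga4h.H912.CoeffSheaf

open Groth.Agent.Sga4h.H912.CoeffExt

variable {Λ Λ₂ : Type} [CommRing Λ] [CommRing Λ₂] [Algebra Λ Λ₂]

/-- `L₂ = L ⊗_Λ Λ₂`. -/
def IsExtSh {X : Scheme.{u}} (L : EtLam.Sheaf Λ X) (L₂ : EtLam.Sheaf Λ₂ X) (s : L.carrier ⟶ L₂.carrier) : Prop :=
  IsExt (fun r => (L.act r : L.carrier ⟶ L.carrier)) (fun c => (L₂.act c : L₂.carrier ⟶ L₂.carrier)) s

theorem IsExtSh.pullback {X Y : Scheme.{u}} (g : X ⟶ Y) {L : EtLam.Sheaf Λ Y} {L₂ : EtLam.Sheaf Λ₂ Y}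
    {s : L.carrier ⟶ L₂.carrier} (h : IsExtSh L L₂ s) :
    IsExtSh (EtLam.pullback g L) (EtLam.pullback g L₂) ((EtCoh.pull g).map s) :=
  IsExt.map h (EtCoh.pull g)

theorem IsExtSh.pushforward {X Y : Scheme.{u}} (g : X ⟶ Y) {L : EtLam.Sheaf Λ X} {L₂ : EtLam.Sheaf Λ₂ X}
    {s : L.carrier ⟶ L₂.carrier} (h : IsExtSh L L₂ s) :
    IsExtSh (EtLam.pushforward g L) (EtLam.pushforward g L₂) ((EtCoh.push g).map s) :=
  IsExt.map h (EtCoh.push g)

theorem IsExtSh.extZeroLam {U X : Scheme.{u}} (j : U ⟶ X) [Etale j] [EtShriek.JCont j]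
    {L : EtLam.Sheaf Λ U} {L₂ : EtLam.Sheaf Λ₂ U} {s : L.carrier ⟶ L₂.carrier} (h : IsExtSh L L₂ s) :
    IsExtSh (FinFr.extZeroLam j L) (FinFr.extZeroLam j L₂) ((EtShriek.extZero j).map s) :=
  IsExt.map h (EtShriek.extZero j)

theorem exists_isExtSh [Nontrivial Λ] [Module.Finite Λ Λ₂] [Module.Free Λ Λ₂] {X : Scheme.{u}} (L : EtLam.Sheaf Λ X) :
    ∃ (L₂ : EtLam.Sheaf Λ₂ X) (s : L.carrier ⟶ L₂.carrier), IsExtSh L L₂ s := by
  obtain ⟨A₂, ρ₂, s, h⟩ := exists_isExt (Λ₂ := Λ₂) L.act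
  exact ⟨⟨A₂, ρ₂⟩, s, h⟩

theorem map_comp_apply {X : Scheme.{u}} {F G H : EtCoh.Ab X} (f : F ⟶ G) (g : G ⟶ H) (n : ℕ) (x : EtCoh.H X F n) :
    Sheaf.H.map (f ≫ g) n x = Sheaf.H.map g n (Sheaf.H.map f n x) :=
  Sheaf.H.map_comp_apply f g x

theorem map_sum_apply {X : Scheme.{u}} {F G : EtCoh.Ab X} {ι : Type} (t : Finset ι) (f : ι → (F ⟶ G)) (n : ℕ)
    (x : EtCoh.H X F n) : Sheaf.H.map (∑ i ∈ t, f i) n x = ∑ i ∈ t, Sheaf.H.map (f i) n x := by
  classical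
  induction t using Finset.induction_on with
  | empty =>
    rw [Finset.sum_empty, Finset.sum_empty]
    change ((Sheaf.functorH _ n).map (0 : F ⟶ G)).hom x = 0
    rw [Functor.map_zero]
    rfl
  | insert a t ha ih =>
    rw [Finset.sum_insert ha, Finset.sum_insert ha, Sheaf.H.map_add_apply, ih]

/-- The coefficient extension on cohomology. -/
theorem IsExtSh.isExtMod {X : Scheme.{u}} {L : EtLam.Sheaf Λ X} {L₂ : EtLam.Sheaf Λ₂ X}
    {s : L.carrier ⟶ L₂.carrier} (h : IsExtSh L L₂ s) (n : ℕ) :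
    IsExtMod (Λ := Λ) (Λ₂ := Λ₂) (V := EtCoh.H X L.carrier n) (W := EtCoh.H X L₂.carrier n)
      (Sheaf.H.map s n) := by
  refine ⟨fun r v => ?_, ?_⟩
  · change Sheaf.H.map s n (Sheaf.H.map (L.act r) n v) = Sheaf.H.map (L₂.act (algebraMap Λ Λ₂ r)) n (Sheaf.H.map s n v)
    rw [← map_comp_apply, ← map_comp_apply]
    exact congrArg (fun f => Sheaf.H.map f n v) (h.lin r)
  · obtain ⟨d, b, p, h1, h2⟩ := h.ex
    refine ⟨d, b, fun i => Sheaf.H.map (p i) n, fun i j v => ?_, fun w => ?_⟩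
    · change Sheaf.H.map (p j) n (Sheaf.H.map (L₂.act (b i)) n (Sheaf.H.map s n v)) = _
      rw [← map_comp_apply, ← map_comp_apply]
      refine (congrArg (fun f => Sheaf.H.map f n v) (h1 i j)).trans ?_
      split_ifs
      · exact Sheaf.H.map_id_apply _
      · change ((Sheaf.functorH _ n).map (0 : L.carrier ⟶ L.carrier)).hom v = 0
        rw [Functor.map_zero]
        rfl
    · have h3 : ∀ i, b i • Sheaf.H.map s n (Sheaf.H.map (p i) n w) = Sheaf.H.map (p i ≫ s ≫ L₂.act (b i)) n w :=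
        fun i => by
          rw [map_comp_apply, map_comp_apply]; rfl
      simp only [h3]
      rw [← map_sum_apply]
      exact (congrArg (fun f => Sheaf.H.map f n w) h2).trans (Sheaf.H.map_id_apply _)

end Groth.Agent.Sga4h.H912.CoeffSheaf
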