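import Groth.Agent.Etcore.CurveNorm621
import Groth.Agent.CalgA.RegBasic
import Groth.Agent.Ega2.SmoothBdry
import Groth.Agent.Ega2.GeoField
import Mathlib.AlgebraicGeometry.ZariskisMainTheorem

/-!
# Normalization of a curve in a finite cover of an open subscheme

`C` locally of finite type, quasi-compact, of dimension `≤ 1` over a perfect field `k`, `j : U ⟶ C` an open
immersion, `π : Y ⟶ U` finite with `Y` smooth over `k`.  Then there are `i : Y ⟶ Z` open immersion,
`ν : Z ⟶ C` finite, with `Z` smooth over `k` and `Y` the preimage of `U`.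
-/

set_option autoImplicit false
universe u
open CategoryTheory CategoryTheory.Limits AlgebraicGeometry TopologicalSpace

namespace Groth.Agent.Sga4h.H912.NormCover

open Groth.Agent.CurvesA.AffCurveGeom

variable (k : Type u) [Field k]

/-- Smooth quasi-finite separated scheme over a curve: it is open in a smooth curve finite over the base curve. -/
theorem exists_normalization [PerfectField k] {Y Z : Scheme.{u}} (f : Z ⟶ Spec (CommRingCat.of k))
    [LocallyOfFiniteType f] [CompactSpace Z] (h : Y ⟶ Z) [LocallyQuasiFinite h] [IsSeparated h]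
    [LocallyOfFiniteType h] [QuasiCompact h]
    [Smooth (h ≫ f)] (hdim : topologicalKrullDim Y ≤ 1) :
    IsOpenImmersion h.toNormalization ∧ IsFinite h.fromNormalization ∧ IsDominant h.toNormalization ∧
      Smooth (h.fromNormalization ≫ f) ∧ topologicalKrullDim h.normalization ≤ 1 := by
  have hZ : IsLocallyNoetherian Z := LocallyOfFiniteType.isLocallyNoetherian f
  have hZn : IsNoetherian Z := {}
  have hqf : QuasiCompact f := (quasiCompact_iff_compactSpace f).2 inferInstance
  let : Y.Over (Spec (CommRingCat.of k)) := ⟨h ≫ f⟩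
  have hsm : Smooth (Y ↘ (Spec (CommRingCat.of k))) := inferInstanceAs (Smooth (h ≫ f))
  have hregY : ∀ w : Y, IsRegularLocalRing (Y.presheaf.stalk w) := fun w => Groth.Agent.S1535.result k Y w
  have hdomY : ∀ w : Y, IsDomain (Y.presheaf.stalk w) := fun w => by
    have := hregY w
    exact Groth.Agent.CalgA.RegBasic.isDomain _
  have hredY : IsReduced Y := by
    have : ∀ z : Y, _root_.IsReduced (Y.presheaf.stalk z) := fun z => by
      have := hdomY z
      infer_instance
    exact isReduced_of_isReduced_stalk _
  have hfin : IsFinite h.fromNormalization :=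
    Groth.Agent.CurvesA.NormFinite.isFinite_fromNormalization h (fun U hU S _ _ _ _ =>
      Groth.Agent.S0573.result Γ(Z, U) (isNagata_app k f U hU) S)
  let p := h.fromNormalization ≫ f
  have hp1 : LocallyOfFiniteType p := inferInstance
  have hp2 : QuasiCompact p := inferInstance
  have hi : IsOpenImmersion h.toNormalization := inferInstance
  have hdom : IsDominant h.toNormalization := inferInstance
  have hdim' : topologicalKrullDim h.normalization ≤ 1 :=
    Groth.Agent.CurvesA.CurveNorm.topologicalKrullDim_le_one k p h.toNormalization hdim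
  have hreg : ∀ z : h.normalization, IsDomain (h.normalization.presheaf.stalk z) ∧
      IsRegularLocalRing (h.normalization.presheaf.stalk z) := by
    intro z
    by_cases hz : z ∈ Set.range h.toNormalization
    · obtain ⟨w, rfl⟩ := hz
      have h1 : IsRegularLocalRing (Y.presheaf.stalk w) := hregY w
      have h2 : IsDomain (Y.presheaf.stalk w) := hdomY w
      let e : h.normalization.presheaf.stalk (h.toNormalization w) ≅ Y.presheaf.stalk w :=
        asIso (h.toNormalization.stalkMap w)
      refine ⟨e.commRingCatIsoToRingEquiv.toMulEquiv.isDomain _, ?_⟩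
      exact IsRegularLocalRing.of_ringEquiv e.symm.commRingCatIsoToRingEquiv
    · obtain ⟨U, hU, hzU, -⟩ := exists_isAffineOpen_mem_and_subset
        (x := h.fromNormalization z) (U := ⊤) trivial
      obtain ⟨h1, h2⟩ := Groth.Agent.CurvesA.CurveNorm.exists_isDomain_stalk k p h.toNormalization hdim
        (h.fromNormalization ⁻¹ᵁ U) (hU.preimage _)
        (Groth.Agent.CurvesA.NormFinite.isIntegrallyClosedIn_toNormalization h U hU) z hzU hz
      exact ⟨h1, inferInstance⟩
  refine ⟨hi, hfin, hdom, ?_, hdim'⟩
  let : h.normalization.Over (Spec (CommRingCat.of k)) := ⟨p⟩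
  have hp3 : LocallyOfFinitePresentation (h.normalization ↘ (Spec (CommRingCat.of k))) :=
    inferInstanceAs (LocallyOfFinitePresentation p)
  have h := (Groth.Agent.S1561.result k h.normalization).1
  have h' : p.smoothLocus = ⊤ := by
    rw [eq_top_iff]
    intro z _
    exact (h z).2 (hreg z).2
  exact Scheme.Hom.smoothLocus_eq_top_iff.1 h'

/-- A dense open subscheme of `Z` which is finite over the open `U` of the base is the whole preimage of `U`. -/
theorem isPullback_of_finite {Y U C Z : Scheme.{u}} (π : Y ⟶ U) [IsFinite π] (j : U ⟶ C) [IsOpenImmersion j]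
    (i : Y ⟶ Z) [IsOpenImmersion i] [IsDominant i] (ν : Z ⟶ C) [IsSeparated ν] (w : i ≫ ν = π ≫ j) :
    IsPullback i π ν j := by
  let l : Y ⟶ pullback ν j := pullback.lift i π w
  have hl1 : l ≫ pullback.fst ν j = i := pullback.lift_fst _ _ _
  have hl2 : l ≫ pullback.snd ν j = π := pullback.lift_snd _ _ _
  have h1 : IsOpenImmersion (l ≫ pullback.fst ν j) := by rw [hl1]; infer_instance
  have hlo : IsOpenImmersion l := IsOpenImmersion.of_comp l (pullback.fst ν j)
  have h2 : IsProper (l ≫ pullback.snd ν j) := by rw [hl2]; infer_instance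
  have hlp : IsProper l := IsProper.of_comp l (pullback.snd ν j)
  have hdense : DenseRange l := by
    have hd : DenseRange (l ≫ pullback.fst ν j) := by rw [hl1]; exact i.denseRange
    intro x
    rw [mem_closure_iff]
    intro V hV hx
    have h3 : IsOpen (pullback.fst ν j '' V) := (pullback.fst ν j).isOpenEmbedding.isOpenMap V hV
    obtain ⟨_, ⟨v, hv, hv'⟩, y, rfl⟩ := (mem_closure_iff.1 (hd (pullback.fst ν j x))) _ h3 ⟨x, hx, rfl⟩
    have h4 : v = l y := (pullback.fst ν j).isOpenEmbedding.injective (by
      rw [hv', Scheme.Hom.comp_apply])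
    exact ⟨l y, h4 ▸ hv, y, rfl⟩
  have hsurj : Function.Surjective l := by
    intro x
    have h3 : IsClosed (Set.range l) := l.isClosedMap.isClosed_range
    have h4 := hdense x
    rw [h3.closure_eq] at h4
    exact h4
  have : Surjective l := ⟨hsurj⟩
  have : Epi l.base := by
    rw [TopCat.epi_iff_surjective]
    exact hsurj
  have hiso : IsIso l := IsOpenImmersion.isIso l
  exact IsPullback.of_iso_pullback ⟨w⟩ (asIso l) hl1 hl2

/-- **Compactified finite covers of an open subscheme of a proper curve.** -/
theorem exists_compactification [PerfectField k] {C U Y : Scheme.{u}} (f : C ⟶ Spec (CommRingCat.of k))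
    [IsProper f] (j : U ⟶ C) [IsOpenImmersion j] (π : Y ⟶ U) [IsFinite π]
    [SmoothOfRelativeDimension 1 (π ≫ j ≫ f)] :
    ∃ (Z : Scheme.{u}) (i : Y ⟶ Z) (ν : Z ⟶ C) (E : Scheme.{u}) (e : E ⟶ Z),
      IsOpenImmersion i ∧ IsDominant i ∧ IsFinite ν ∧ IsPullback i π ν j ∧ SmoothOfRelativeDimension 1 (ν ≫ f) ∧
      IsClosedImmersion e ∧ IsFinite (e ≫ ν ≫ f) ∧ Etale (e ≫ ν ≫ f) ∧ Set.range e = (Set.range i)ᶜ := by
  have hCN : IsLocallyNoetherian C := LocallyOfFiniteType.isLocallyNoetherian f
  have hCc : CompactSpace C := QuasiCompact.compactSpace_of_compactSpace f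
  have hCn : IsNoetherian C := {}
  have hqj : QuasiCompact j := inferInstance
  let h : Y ⟶ C := π ≫ j
  have hsm' : SmoothOfRelativeDimension 1 (h ≫ f) := by rw [Category.assoc]; infer_instance
  have hsm : Smooth (h ≫ f) := SmoothOfRelativeDimension.smooth 1 _
  have hdim : topologicalKrullDim Y ≤ 1 := by
    rw [VarietyB.DimTop.topologicalKrullDim_eq_iSup_localDim]
    exact iSup_le fun x => (UnramA.SmoothFibreDim.localDim_eq 1 (h ≫ f) x).le
  have hlqf : LocallyQuasiFinite h := inferInstance
  obtain ⟨h1, h2, h3, h4, h5⟩ := exists_normalization k f h hdim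
  have hYc : CompactSpace Y := QuasiCompact.compactSpace_of_compactSpace (h ≫ f)
  have hw : h.toNormalization ≫ h.fromNormalization = π ≫ j := h.toNormalization_fromNormalization
  have hpb := isPullback_of_finite π j h.toNormalization h.fromNormalization hw
  have hrel : SmoothOfRelativeDimension 1 (h.toNormalization ≫ h.fromNormalization ≫ f) := by
    rw [← Category.assoc, hw, Category.assoc]; infer_instance
  have h6 : SmoothOfRelativeDimension 1 (h.fromNormalization ≫ f) :=
    Ega2.SmoothBdry.smoothOfRelativeDimension_of_dense h.toNormalization _ 1 h.toNormalization.denseRange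
  have h7 : IsProper (h.fromNormalization ≫ f) := inferInstance
  obtain ⟨hf1, hf2⟩ := Groth.Agent.VarietyB.CurveClosure.finite_compl_of_dim_le_one k (h.fromNormalization ≫ f)
    h.toNormalization hdim
  obtain ⟨E, e, he1, he2, he3, he4⟩ := Ega2.SmoothBdry.exists_finite_etale_of_finite
    (h.fromNormalization ≫ f) (Set.range h.toNormalization)ᶜ hf1 (fun z hz => hf2 z hz)
  exact ⟨h.normalization, h.toNormalization, h.fromNormalization, E, e, h1, h3, h2, hpb, h6, he1, he2, he3, he4⟩

end Groth.Agent.Sga4h.H912.NormCover
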