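import Groth.Agent.Sga4h.H912.TwistH

/-!
# Unramified twists and Frobenius

`FrobTwist K a c L L'`: `L'` is the twist of `L` by the unramified character with geometric Frobenius eigenvalue `c`.
`FrobTwist.exists_equiv`: an isomorphism `e : H^n(X_K, L) ≃ H^n(X_K, L')` with `F (e x) = c • e (F x)`.
-/

set_option autoImplicit false
universe u

open CategoryTheory CategoryTheory.Limits AlgebraicGeometry Opposite

namespace Groth.Agent.Sga4h.H912.TwistFrob

open Groth.Agent.Sga4h.H912.Twist Groth.Agent.Sga4h.H912.TwistGal Groth.Agent.Sga4h.H925.Defs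

section Alg

variable {Λ : Type*} [CommRing Λ]

theorem conj_eq {V W : Type*} [AddCommGroup V] [AddCommGroup W] [Module Λ V] [Module Λ W] (e : V ≃ₗ[Λ] W)
    (f : V →ₗ[Λ] V) (g : W →ₗ[Λ] W) (c : Λ) (h : ∀ x, g (e x) = c • e (f x)) : g = c • e.conj f := by
  apply LinearMap.ext
  intro y
  obtain ⟨x, rfl⟩ := e.surjective y
  rw [LinearMap.smul_apply, LinearEquiv.conj_apply, h]
  simp

theorem trace_of_conj {V W : Type*} [AddCommGroup V] [AddCommGroup W] [Module Λ V] [Module Λ W] (e : V ≃ₗ[Λ] W)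
    (f : V →ₗ[Λ] V) (g : W →ₗ[Λ] W) (c : Λ) (h : ∀ x, g (e x) = c • e (f x)) :
    LinearMap.trace Λ W g = c * LinearMap.trace Λ V f := by
  rw [conj_eq e f g c h, map_smul, LinearMap.trace_conj', smul_eq_mul]

/-- Multiplication by a scalar of a field commutes with `finsum`. -/
theorem mul_finsum_field {Λ : Type*} [Field Λ] {ι : Type*} (f : ι → Λ) (c : Λ) :
    c * ∑ᶠ i, f i = ∑ᶠ i, c * f i := by
  by_cases hc : c = 0
  · subst hc
    simp
  · exact (AddMonoidHom.mulLeft c).map_finsum_of_injective (fun x y h => mul_left_cancel₀ hc h) f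

end Alg

variable {k : Type u} [Field k] [Fintype k] {K : Type u} [Field K] [Algebra k K] [Algebra.IsAlgebraic k K]
variable {X₀ : Scheme.{u}} [Fact FinFr.PullExact.{u}] {Λ : Type} [CommRing Λ]

/-- `L'` is the twist of `L` by the unramified character with Frobenius eigenvalue `c`. -/
def FrobTwist (K : Type u) [Field K] [Algebra k K] [Algebra.IsAlgebraic k K] (a : X₀ ⟶ Spec (CommRingCat.of k)) (c : Λ)
    (L L' : EtLam.Sheaf Λ X₀) : Prop :=
  GalTwist (K := K) a (FinFr.arith k K).symm c L L'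

theorem FrobTwist.exists_equiv {a : X₀ ⟶ Spec (CommRingCat.of k)} {c : Λ} {L L' : EtLam.Sheaf Λ X₀}
    (h : FrobTwist K a c L L') (n : ℕ) :
    ∃ e : HK K a L n ≃ₗ[Λ] HK K a L' n, ∀ x, frobK K a L' n (e x) = c • e (frobK K a L n x) :=
  TwistH.exists_equiv h n

theorem FrobTwist.trace_frobK {a : X₀ ⟶ Spec (CommRingCat.of k)} {c : Λ} {L L' : EtLam.Sheaf Λ X₀}
    (h : FrobTwist K a c L L') (n : ℕ) :
    LinearMap.trace Λ _ (frobK K a L' n) = c * LinearMap.trace Λ _ (frobK K a L n) := by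
  obtain ⟨e, he⟩ := h.exists_equiv n
  exact trace_of_conj e _ _ c he

omit [Fact FinFr.PullExact.{u}] in
theorem FrobTwist.congr {a : X₀ ⟶ Spec (CommRingCat.of k)} {c : Λ} {L L' L₁ L₁' : EtLam.Sheaf Λ X₀}
    (h : FrobTwist K a c L L') (hL : LamIso L L₁) (hL' : LamIso L' L₁') : FrobTwist K a c L₁ L₁' :=
  GalTwist.congr h hL hL'

omit [Fact FinFr.PullExact.{u}] in
theorem FrobTwist.extZeroLam {Y₀ : Scheme.{u}} {b : Y₀ ⟶ Spec (CommRingCat.of k)} {a : X₀ ⟶ Spec (CommRingCat.of k)}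
    (j : X₀ ⟶ Y₀) [IsOpenImmersion j] (w : j ≫ b = a) {c : Λ} {L L' : EtLam.Sheaf Λ X₀} (h : FrobTwist K a c L L') :
    FrobTwist K b c (FinFr.extZeroLam j L) (FinFr.extZeroLam j L') :=
  GalTwist.extZeroLam a j w h

omit [Fact FinFr.PullExact.{u}] in
theorem FrobTwist.pullback {Y₀ : Scheme.{u}} {b : Y₀ ⟶ Spec (CommRingCat.of k)} {a : X₀ ⟶ Spec (CommRingCat.of k)}
    (g : X₀ ⟶ Y₀) (w : g ≫ b = a) {c : Λ} {L L' : EtLam.Sheaf Λ Y₀} (h : FrobTwist K b c L L') :
    FrobTwist K a c (EtLam.pullback g L) (EtLam.pullback g L') :=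
  GalTwist.pullback a g w h

theorem FrobTwist.locTrace {a : X₀ ⟶ Spec (CommRingCat.of k)} {c : Λ} {L L' : EtLam.Sheaf Λ X₀}
    (h : FrobTwist K a c L L') (x : FinFr.RatPt a) :
    FinFr.locTrace (K := K) x.1 L' = c * FinFr.locTrace (K := K) x.1 L :=
  (FrobTwist.pullback (a := 𝟙 _) x.1 x.2 h).trace_frobK 0

/-- The sum of the local traces is multiplied by `c`. -/
theorem FrobTwist.sum_locTrace {Λ : Type} [Field Λ] {a : X₀ ⟶ Spec (CommRingCat.of k)} {c : Λ} {L L' : EtLam.Sheaf Λ X₀}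
    (h : FrobTwist K a c L L') :
    ∑ᶠ x : FinFr.RatPt a, FinFr.locTrace (K := K) x.1 L' = c * ∑ᶠ x : FinFr.RatPt a, FinFr.locTrace (K := K) x.1 L := by
  rw [mul_finsum_field]
  exact finsum_congr fun x => h.locTrace x

/-- The alternating sum of traces is multiplied by `c`. -/
theorem FrobTwist.sum_trace {Λ : Type} [Field Λ] {a : X₀ ⟶ Spec (CommRingCat.of k)} {c : Λ} {L L' : EtLam.Sheaf Λ X₀}
    (h : FrobTwist K a c L L') :
    ∑ᶠ i : ℕ, (-1 : Λ) ^ i * LinearMap.trace Λ _ (FinFr.frob (K := K) a L' i) =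
      c * ∑ᶠ i : ℕ, (-1 : Λ) ^ i * LinearMap.trace Λ _ (FinFr.frob (K := K) a L i) := by
  rw [mul_finsum_field]
  refine finsum_congr fun i => ?_
  have := h.trace_frobK i
  change (-1 : Λ) ^ i * LinearMap.trace Λ _ (frobK K a L' i) = c * ((-1 : Λ) ^ i * LinearMap.trace Λ _ (frobK K a L i))
  rw [this]
  ring

end Groth.Agent.Sga4h.H912.TwistFrob
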