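import Groth.Agent.Sga4h.H925.Defs
import Groth.Agent.Sga4h.H157.ConstExt
import Groth.Agent.Sga4h.H912.TwistFrob

/-!
# Determinants modulo `T^(N+1)`: rescaling, extension of scalars, reduction
-/

set_option autoImplicit false
set_option linter.dupNamespace false

universe v w

open Polynomial

namespace Groth.Agent.Sga4h.H912.DetAlg

open Groth.Agent.Sga4h.H925.Inv Groth.Agent.Sga4h.H925.DetInv Groth.Agent.Sga4h.H925.Defs

section TrHom

variable {Λ Λ' : Type} [Field Λ] [Field Λ']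

/-- The ring homomorphism between truncated power series rings induced by `ρ` with `X ∣ ρ X`. -/
noncomputable def trHom (N N' : ℕ) (hN : N' ≤ N) (ρ : PowerSeries Λ →+* PowerSeries Λ')
    (hρ : (PowerSeries.X : PowerSeries Λ') ∣ ρ PowerSeries.X) : TrRing Λ N →+* TrRing Λ' N' :=
  Ideal.quotientMap _ ρ (by
    rw [Ideal.span_le, Set.singleton_subset_iff, SetLike.mem_coe, Ideal.mem_comap, map_pow, Ideal.mem_span_singleton]
    exact (pow_dvd_pow _ (by omega)).trans (pow_dvd_pow_of_dvd hρ (N + 1)))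

theorem trHom_mk (N N' : ℕ) (hN : N' ≤ N) (ρ : PowerSeries Λ →+* PowerSeries Λ')
    (hρ : (PowerSeries.X : PowerSeries Λ') ∣ ρ PowerSeries.X) (f : PowerSeries Λ) :
    trHom N N' hN ρ hρ (Ideal.Quotient.mk _ f) = Ideal.Quotient.mk _ (ρ f) := rfl

/-- The induced map on units, written additively. -/
noncomputable def uHom (N N' : ℕ) (hN : N' ≤ N) (ρ : PowerSeries Λ →+* PowerSeries Λ')
    (hρ : (PowerSeries.X : PowerSeries Λ') ∣ ρ PowerSeries.X) :
    Additive (TrRing Λ N)ˣ →+ Additive (TrRing Λ' N')ˣ :=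
  (Units.map (trHom N N' hN ρ hρ).toMonoidHom).toAdditive

theorem uHom_trMap (N N' : ℕ) (hN : N' ≤ N) (ρ : PowerSeries Λ →+* PowerSeries Λ')
    (hρ : (PowerSeries.X : PowerSeries Λ') ∣ ρ PowerSeries.X) {f : Λ[X]} {g : Λ'[X]} (hf : f.coeff 0 = 1)
    (hg : g.coeff 0 = 1) (h : ρ (f : PowerSeries Λ) = (g : PowerSeries Λ')) :
    uHom N N' hN ρ hρ (trMap Λ N (Additive.ofMul (psUnit f))) = trMap Λ' N' (Additive.ofMul (psUnit g)) := by
  apply Additive.toMul.injective
  apply Units.ext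
  change trHom N N' hN ρ hρ (Ideal.Quotient.mk _ (psUnit f : PowerSeries Λ)) =
    Ideal.Quotient.mk _ (psUnit g : PowerSeries Λ')
  rw [trHom_mk, val_psUnit hf, val_psUnit hg, h]

theorem detInvN_val (N : ℕ) (V : Type v) [AddCommGroup V] [Module Λ V] (φ : V →ₗ[Λ] V) :
    (detInvN Λ N).val V φ = trMap Λ N (Additive.ofMul (psUnit (FinFr.charRev φ))) := by
  rw [detInvN, mapInv_val, detInv_one_val]

theorem uHom_val (N N' : ℕ) (hN : N' ≤ N) (ρ : PowerSeries Λ →+* PowerSeries Λ')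
    (hρ : (PowerSeries.X : PowerSeries Λ') ∣ ρ PowerSeries.X) {V : Type v} [AddCommGroup V] [Module Λ V]
    {W : Type w} [AddCommGroup W] [Module Λ' W] (φ : V →ₗ[Λ] V) (ψ : W →ₗ[Λ'] W)
    (h : ρ (FinFr.charRev φ : PowerSeries Λ) = (FinFr.charRev ψ : PowerSeries Λ')) :
    uHom N N' hN ρ hρ ((detInvN Λ N).val V φ) = (detInvN Λ' N').val W ψ := by
  rw [detInvN_val, detInvN_val]
  exact uHom_trMap N N' hN ρ hρ (coeff_zero_charRev φ) (coeff_zero_charRev ψ) h

theorem uHom_injective (N : ℕ) (ρ : PowerSeries Λ →+* PowerSeries Λ')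
    (hρ : (PowerSeries.X : PowerSeries Λ') ∣ ρ PowerSeries.X)
    (h : ∀ f, (PowerSeries.X : PowerSeries Λ') ^ (N + 1) ∣ ρ f → (PowerSeries.X : PowerSeries Λ) ^ (N + 1) ∣ f) :
    Function.Injective (uHom N N le_rfl ρ hρ) := by
  have h1 : Function.Injective (trHom N N le_rfl ρ hρ) := by
    rw [injective_iff_map_eq_zero]
    intro x hx
    obtain ⟨f, rfl⟩ := Ideal.Quotient.mk_surjective x
    rw [trHom_mk, Ideal.Quotient.eq_zero_iff_mem, Ideal.mem_span_singleton] at hx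
    rw [Ideal.Quotient.eq_zero_iff_mem, Ideal.mem_span_singleton]
    exact h f hx
  intro x y hxy
  apply Additive.toMul.injective
  apply Units.ext
  apply h1
  exact congrArg (fun t : Additive (TrRing Λ' N)ˣ => ((Additive.toMul t : (TrRing Λ' N)ˣ) : TrRing Λ' N)) hxy

end TrHom

section Rescale

variable {Λ : Type} [Field Λ]

theorem charpolyRev_smul {R : Type*} [CommRing R] {n : Type*} [Fintype n] [DecidableEq n] (M : Matrix n n R) (c : R) :
    (c • M).charpolyRev = M.charpolyRev.comp (C c * X) := by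
  rw [Matrix.charpolyRev, Matrix.charpolyRev, ← Polynomial.coe_compRingHom_apply, RingHom.map_det]
  congr 1
  ext1 i j
  simp only [Matrix.sub_apply, Matrix.smul_apply, Matrix.map_apply, RingHom.mapMatrix_apply, map_sub, map_mul,
    Matrix.one_apply, smul_eq_mul, coe_compRingHom_apply, X_comp, C_comp]
  by_cases h : i = j
  · subst h
    simp only [if_true, one_comp]; ring
  · simp only [if_neg h, zero_comp]; ring

theorem charRev_smul {V : Type*} [AddCommGroup V] [Module Λ V] (φ : V →ₗ[Λ] V) (c : Λ) :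
    FinFr.charRev (c • φ) = (FinFr.charRev φ).comp (C c * X) := by
  classical
  by_cases hV : Module.Finite Λ V
  · let b := Module.finBasis Λ V
    rw [charRev_eq b, charRev_eq b, map_smul, charpolyRev_smul]
  · rw [H157.ConstExt.charRev_of_not_finite hV, H157.ConstExt.charRev_of_not_finite hV, one_comp]

theorem coe_comp_C_mul_X (f : Λ[X]) (c : Λ) :
    ((f.comp (C c * X) : Λ[X]) : PowerSeries Λ) = PowerSeries.rescale c (f : PowerSeries Λ) := by
  ext n
  rw [PowerSeries.coeff_rescale, Polynomial.coeff_coe, Polynomial.coeff_coe, comp_C_mul_X_coeff, mul_comm]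

theorem X_dvd_rescale (c : Λ) : (PowerSeries.X : PowerSeries Λ) ∣ PowerSeries.rescale c PowerSeries.X := by
  rw [PowerSeries.rescale_X]
  exact dvd_mul_left _ _

/-- Rescaling `T ↦ cT`. -/
noncomputable def rs (N : ℕ) (c : Λ) : Additive (TrRing Λ N)ˣ →+ Additive (TrRing Λ N)ˣ :=
  uHom N N le_rfl (PowerSeries.rescale c) (X_dvd_rescale c)

theorem rs_injective (N : ℕ) {c : Λ} (hc : c ≠ 0) : Function.Injective (rs N c) := by
  refine uHom_injective N _ _ fun f hf => ?_
  rw [PowerSeries.X_pow_dvd_iff] at hf ⊢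
  intro m hm
  have h := hf m hm
  rw [PowerSeries.coeff_rescale] at h
  exact (mul_eq_zero.1 h).resolve_left (pow_ne_zero m hc)

theorem charRev_of_conj {V W : Type*} [AddCommGroup V] [AddCommGroup W] [Module Λ V] [Module Λ W] (e : V ≃ₗ[Λ] W)
    (f : V →ₗ[Λ] V) (g : W →ₗ[Λ] W) (c : Λ) (h : ∀ x, g (e x) = c • e (f x)) :
    (FinFr.charRev g : PowerSeries Λ) = PowerSeries.rescale c (FinFr.charRev f : PowerSeries Λ) := by
  rw [TwistFrob.conj_eq e f g c h, charRev_smul, H157.ConstExt.charRev_conj, coe_comp_C_mul_X]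

theorem rs_val (N : ℕ) {V : Type v} {W : Type w} [AddCommGroup V] [AddCommGroup W] [Module Λ V] [Module Λ W]
    (e : V ≃ₗ[Λ] W) (f : V →ₗ[Λ] V) (g : W →ₗ[Λ] W) (c : Λ) (h : ∀ x, g (e x) = c • e (f x)) :
    (detInvN Λ N).val W g = rs N c ((detInvN Λ N).val V f) :=
  (uHom_val N N le_rfl _ _ f g (charRev_of_conj e f g c h).symm).symm

end Rescale

section Ext

variable {Λ Λ₂ : Type} [Field Λ] [Field Λ₂] [Algebra Λ Λ₂]

theorem X_dvd_map : (PowerSeries.X : PowerSeries Λ₂) ∣ PowerSeries.map (algebraMap Λ Λ₂) PowerSeries.X := by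
  rw [PowerSeries.map_X]

variable (Λ Λ₂) in
/-- Extension of scalars. -/
noncomputable def ex (N : ℕ) : Additive (TrRing Λ N)ˣ →+ Additive (TrRing Λ₂ N)ˣ :=
  uHom N N le_rfl (PowerSeries.map (algebraMap Λ Λ₂)) X_dvd_map

theorem ex_injective (N : ℕ) : Function.Injective (ex Λ Λ₂ N) := by
  refine uHom_injective N _ _ fun f hf => ?_
  rw [PowerSeries.X_pow_dvd_iff] at hf ⊢
  intro m hm
  have h := hf m hm
  rw [PowerSeries.coeff_map] at h
  exact (map_eq_zero (algebraMap Λ Λ₂)).1 h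

theorem ex_val (N : ℕ) {V : Type v} {W : Type w} [AddCommGroup V] [AddCommGroup W] [Module Λ V] [Module Λ₂ W]
    (φ : V →ₗ[Λ] V) (ψ : W →ₗ[Λ₂] W) (h : FinFr.charRev ψ = (FinFr.charRev φ).map (algebraMap Λ Λ₂)) :
    (detInvN Λ₂ N).val W ψ = ex Λ Λ₂ N ((detInvN Λ N).val V φ) := by
  refine (uHom_val N N le_rfl _ _ φ ψ ?_).symm
  rw [h, Polynomial.polynomial_map_coe]

end Ext

section Red

variable (Λ : Type) [Field Λ]

/-- Reduction modulo `T^(N'+1)`. -/
noncomputable def rd (N N' : ℕ) (h : N' ≤ N) : Additive (TrRing Λ N)ˣ →+ Additive (TrRing Λ N')ˣ :=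
  uHom N N' h (RingHom.id _) dvd_rfl

theorem rd_val (N N' : ℕ) (h : N' ≤ N) {V : Type v} [AddCommGroup V] [Module Λ V] (φ : V →ₗ[Λ] V) :
    rd Λ N N' h ((detInvN Λ N).val V φ) = (detInvN Λ N').val V φ :=
  uHom_val N N' h _ _ φ φ rfl

/-- The coefficient of `T^N`. -/
noncomputable def cf (N : ℕ) : TrRing Λ N →+ Λ :=
  QuotientAddGroup.lift (Ideal.span {(PowerSeries.X : PowerSeries Λ) ^ (N + 1)}).toAddSubgroup
    (PowerSeries.coeff N : PowerSeries Λ →ₗ[Λ] Λ).toAddMonoidHom (by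
      intro f hf
      have h1 : (PowerSeries.X : PowerSeries Λ) ^ (N + 1) ∣ f := Ideal.mem_span_singleton.1 hf
      rw [PowerSeries.X_pow_dvd_iff] at h1
      exact h1 N (by omega))

theorem cf_mk (N : ℕ) (f : PowerSeries Λ) : cf Λ N (Ideal.Quotient.mk _ f) = PowerSeries.coeff N f := rfl

variable {Λ}

/-- The coefficient of `T^N` of a unit. -/
noncomputable def cu (N : ℕ) (u : Additive (TrRing Λ N)ˣ) : Λ :=
  cf Λ N ((Additive.toMul u : (TrRing Λ N)ˣ) : TrRing Λ N)

/-- Units reducing to `1` modulo `T^N` are of the form `1 + T^N g`. -/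
theorem exists_repr (N : ℕ) {u : Additive (TrRing Λ (N + 1))ˣ} (hu : rd Λ (N + 1) N (Nat.le_succ N) u = 0) :
    ((Additive.toMul u : (TrRing Λ (N + 1))ˣ) : TrRing Λ (N + 1)) =
      Ideal.Quotient.mk _ (1 + PowerSeries.C (cu (N + 1) u) * PowerSeries.X ^ (N + 1)) := by
  obtain ⟨f, hf⟩ := Ideal.Quotient.mk_surjective ((Additive.toMul u : (TrRing Λ (N + 1))ˣ) : TrRing Λ (N + 1))
  have h1 : cu (N + 1) u = PowerSeries.coeff (N + 1) f := by
    rw [cu, ← hf, cf_mk]
  have h2 : (Ideal.Quotient.mk _ f : TrRing Λ N) = 1 := by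
    have h3 := congrArg (fun t : Additive (TrRing Λ N)ˣ => ((Additive.toMul t : (TrRing Λ N)ˣ) : TrRing Λ N)) hu
    change trHom (N + 1) N (Nat.le_succ N) (RingHom.id _) dvd_rfl
      ((Additive.toMul u : (TrRing Λ (N + 1))ˣ) : TrRing Λ (N + 1)) = 1 at h3
    rw [← hf, trHom_mk] at h3
    exact h3
  rw [← hf, h1, Ideal.Quotient.eq, Ideal.mem_span_singleton, PowerSeries.X_pow_dvd_iff]
  rw [← map_one (Ideal.Quotient.mk _), Ideal.Quotient.eq, Ideal.mem_span_singleton, PowerSeries.X_pow_dvd_iff] at h2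
  intro m hm
  rcases Nat.lt_or_ge m (N + 1) with h | h
  · have h3 := h2 m h
    rw [map_sub] at h3 ⊢
    rw [map_add, PowerSeries.coeff_C_mul, PowerSeries.coeff_X_pow, if_neg (by omega), mul_zero, add_zero]
    exact h3
  · obtain rfl : m = N + 1 := by omega
    rw [map_sub, map_add, PowerSeries.coeff_C_mul, PowerSeries.coeff_X_pow, if_pos rfl, mul_one,
      PowerSeries.coeff_one, if_neg (by omega), zero_add, sub_self]

theorem eq_zero_of_cu (N : ℕ) {u : Additive (TrRing Λ (N + 1))ˣ} (hu : rd Λ (N + 1) N (Nat.le_succ N) u = 0)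
    (h : cu (N + 1) u = 0) : u = 0 := by
  apply Additive.toMul.injective
  apply Units.ext
  rw [exists_repr N hu, h, map_zero, zero_mul, add_zero, map_one]
  rfl

theorem cu_add (N : ℕ) {u v : Additive (TrRing Λ (N + 1))ˣ} (hu : rd Λ (N + 1) N (Nat.le_succ N) u = 0)
    (hv : rd Λ (N + 1) N (Nat.le_succ N) v = 0) : cu (N + 1) (u + v) = cu (N + 1) u + cu (N + 1) v := by
  have h1 : ((Additive.toMul (u + v) : (TrRing Λ (N + 1))ˣ) : TrRing Λ (N + 1)) =
      ((Additive.toMul u : (TrRing Λ (N + 1))ˣ) : TrRing Λ (N + 1)) *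
        ((Additive.toMul v : (TrRing Λ (N + 1))ˣ) : TrRing Λ (N + 1)) := rfl
  rw [cu, h1, exists_repr N hu, exists_repr N hv, ← map_mul, cf_mk]
  have h2 : (1 + PowerSeries.C (cu (N + 1) u) * PowerSeries.X ^ (N + 1)) *
      (1 + PowerSeries.C (cu (N + 1) v) * PowerSeries.X ^ (N + 1)) =
      1 + PowerSeries.C (cu (N + 1) u + cu (N + 1) v) * PowerSeries.X ^ (N + 1) +
        PowerSeries.C (cu (N + 1) u * cu (N + 1) v) * (PowerSeries.X ^ (N + 1) * PowerSeries.X ^ (N + 1)) := by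
    rw [map_add, map_mul]
    ring
  rw [h2, map_add, map_add, PowerSeries.coeff_C_mul, PowerSeries.coeff_C_mul, PowerSeries.coeff_X_pow, if_pos rfl,
    PowerSeries.coeff_one, if_neg (by omega), ← pow_add, PowerSeries.coeff_X_pow, if_neg (by omega)]
  ring

theorem cu_rs (N : ℕ) (c : Λ) (u : Additive (TrRing Λ N)ˣ) : cu N (rs N c u) = c ^ N * cu N u := by
  obtain ⟨f, hf⟩ := Ideal.Quotient.mk_surjective ((Additive.toMul u : (TrRing Λ N)ˣ) : TrRing Λ N)
  have h1 : ((Additive.toMul (rs N c u) : (TrRing Λ N)ˣ) : TrRing Λ N) =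
      Ideal.Quotient.mk _ (PowerSeries.rescale c f) := by
    change trHom N N le_rfl (PowerSeries.rescale c) (X_dvd_rescale c)
      ((Additive.toMul u : (TrRing Λ N)ˣ) : TrRing Λ N) = _
    rw [← hf, trHom_mk]
  rw [cu, cu, h1, ← hf, cf_mk, cf_mk, PowerSeries.coeff_rescale]

theorem cu_zero (N : ℕ) (hN : 0 < N) : cu N (0 : Additive (TrRing Λ N)ˣ) = 0 := by
  have h1 : cu N (0 : Additive (TrRing Λ N)ˣ) = cf Λ N (Ideal.Quotient.mk _ 1) := rfl
  rw [h1, cf_mk, PowerSeries.coeff_one, if_neg hN.ne']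

/-- Modulo `T` every determinant is `1`. -/
theorem val_zero {V : Type v} [AddCommGroup V] [Module Λ V] (φ : V →ₗ[Λ] V) : (detInvN Λ 0).val V φ = 0 := by
  rw [detInvN_val]
  apply Additive.toMul.injective
  apply Units.ext
  change (Ideal.Quotient.mk _ (psUnit (FinFr.charRev φ) : PowerSeries Λ) : TrRing Λ 0) = 1
  rw [val_psUnit (coeff_zero_charRev φ), ← map_one (Ideal.Quotient.mk _), Ideal.Quotient.eq, Ideal.mem_span_singleton,
    PowerSeries.X_pow_dvd_iff]
  intro m hm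
  obtain rfl : m = 0 := by omega
  rw [map_sub, Polynomial.coeff_coe, coeff_zero_charRev, PowerSeries.coeff_one, if_pos rfl, sub_self]

end Red

end Groth.Agent.Sga4h.H912.DetAlg
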