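import Groth.Agent.Sga4h.H912.TwistCoh
import Groth.Agent.S0101
import Groth.Prelude.Def_FinFr

/-!
# Unramified twists of `Λ`-sheaves

`TwistVia q s w c L L'`: over `q : Y ⟶ X` the sheaves `L`, `L'` become isomorphic, the isomorphism being compatible
with the endomorphism `s` of `Y` over `X` up to the scalar `c`.  Invariance, pullback along squares, extension by
zero.
-/

set_option autoImplicit false
universe u

open CategoryTheory CategoryTheory.Limits AlgebraicGeometry Opposite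

namespace Groth.Agent.Sga4h.H912.Twist

open Groth.Agent.Etcore.PullCoh Groth.Agent.Sga4h.H912.TwistCoh

section Obj

variable {Λ : Type*}

/-- Isomorphism of sheaves with operators. -/
def ObjIso {X : Scheme.{u}} {G G' : EtCoh.Ab X} (ρ : Λ → (G ⟶ G)) (ρ' : Λ → (G' ⟶ G')) : Prop :=
  ∃ e : G ≅ G', ∀ r : Λ, ρ r ≫ e.hom = e.hom ≫ ρ' r

theorem ObjIso.refl {X : Scheme.{u}} {G : EtCoh.Ab X} (ρ : Λ → (G ⟶ G)) : ObjIso ρ ρ :=
  ⟨Iso.refl _, fun r => by simp⟩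

theorem ObjIso.symm {X : Scheme.{u}} {G G' : EtCoh.Ab X} {ρ : Λ → (G ⟶ G)} {ρ' : Λ → (G' ⟶ G')} (h : ObjIso ρ ρ') :
    ObjIso ρ' ρ := by
  obtain ⟨e, he⟩ := h
  exact ⟨e.symm, fun r => by rw [Iso.symm_hom, Iso.comp_inv_eq, Category.assoc, he, Iso.inv_hom_id_assoc]⟩

theorem ObjIso.trans {X : Scheme.{u}} {G G' G'' : EtCoh.Ab X} {ρ : Λ → (G ⟶ G)} {ρ' : Λ → (G' ⟶ G')}
    {ρ'' : Λ → (G'' ⟶ G'')} (h : ObjIso ρ ρ') (h' : ObjIso ρ' ρ'') : ObjIso ρ ρ'' := by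
  obtain ⟨e, he⟩ := h
  obtain ⟨e', he'⟩ := h'
  refine ⟨e ≪≫ e', fun r => ?_⟩
  rw [Iso.trans_hom, ← Category.assoc, he, Category.assoc, he', Category.assoc]

theorem ObjIso.map {X X' : Scheme.{u}} (F : EtCoh.Ab X ⥤ EtCoh.Ab X') {G G' : EtCoh.Ab X} {ρ : Λ → (G ⟶ G)}
    {ρ' : Λ → (G' ⟶ G')} (h : ObjIso ρ ρ') : ObjIso (fun r => F.map (ρ r)) (fun r => F.map (ρ' r)) := by
  obtain ⟨e, he⟩ := h
  refine ⟨F.mapIso e, fun r => ?_⟩
  rw [Functor.mapIso_hom, ← F.map_comp, he, F.map_comp]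

/-- Twist of sheaves with operators. -/
def TwistObj {X Y : Scheme.{u}} (q : Y ⟶ X) (s : Y ⟶ Y) (w : s ≫ q = q) (c : Λ) {G G' : EtCoh.Ab X}
    (ρ : Λ → (G ⟶ G)) (ρ' : Λ → (G' ⟶ G')) : Prop :=
  ∃ φ : (EtCoh.pull q).obj G ≅ (EtCoh.pull q).obj G',
    (∀ r : Λ, (EtCoh.pull q).map (ρ r) ≫ φ.hom = φ.hom ≫ (EtCoh.pull q).map (ρ' r)) ∧
    (EtCoh.pull s).map φ.hom ≫ th s q q w G' = th s q q w G ≫ φ.hom ≫ (EtCoh.pull q).map (ρ' c)

theorem TwistObj.congr {X Y : Scheme.{u}} {q : Y ⟶ X} {s : Y ⟶ Y} {w : s ≫ q = q} {c : Λ}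
    {G G' G₁ G₁' : EtCoh.Ab X} {ρ : Λ → (G ⟶ G)} {ρ' : Λ → (G' ⟶ G')} {ρ₁ : Λ → (G₁ ⟶ G₁)} {ρ₁' : Λ → (G₁' ⟶ G₁')}
    (h : TwistObj q s w c ρ ρ') (hL : ObjIso ρ ρ₁) (hL' : ObjIso ρ' ρ₁') :
    TwistObj q s w c ρ₁ ρ₁' := by
  obtain ⟨φ, h1, h2⟩ := h
  obtain ⟨e, he⟩ := hL.symm
  obtain ⟨e', he'⟩ := hL'
  refine ⟨(EtCoh.pull q).mapIso e ≪≫ φ ≪≫ (EtCoh.pull q).mapIso e', fun r => ?_, ?_⟩
  · simp only [Iso.trans_hom, Functor.mapIso_hom, Category.assoc]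
    rw [← Category.assoc ((EtCoh.pull q).map (ρ₁ r)), ← Functor.map_comp, he, Functor.map_comp, Category.assoc,
      ← Category.assoc ((EtCoh.pull q).map (ρ r)), h1, Category.assoc, ← Functor.map_comp, he', Functor.map_comp]
  · simp only [Iso.trans_hom, Functor.mapIso_hom, Category.assoc, Functor.map_comp]
    rw [th_nat, ← Category.assoc ((EtCoh.pull s).map φ.hom), h2]
    simp only [Category.assoc]
    rw [← Functor.map_comp, he', Functor.map_comp, ← Category.assoc ((EtCoh.pull s).map _), th_nat, Category.assoc]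

/-- Pullback of twist data along a commutative square. -/
theorem TwistObj.pull {X X' Y Y' : Scheme.{u}} (u : Y' ⟶ Y) (g : X' ⟶ X) (q' : Y' ⟶ X') (q : Y ⟶ X)
    (w : q' ≫ g = u ≫ q) (s : Y ⟶ Y) (s' : Y' ⟶ Y') (hs : s ≫ q = q) (hs' : s' ≫ q' = q') (hn : s' ≫ u = u ≫ s)
    {c : Λ} {G G' : EtCoh.Ab X} {ρ : Λ → (G ⟶ G)} {ρ' : Λ → (G' ⟶ G')} (h : TwistObj q s hs c ρ ρ') :
    TwistObj q' s' hs' c (fun r => (EtCoh.pull g).map (ρ r)) (fun r => (EtCoh.pull g).map (ρ' r)) := by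
  obtain ⟨φ, h1, h2⟩ := h
  refine ⟨⟨tr u g q' q (u ≫ q) w rfl φ.hom, tr u g q' q (u ≫ q) w rfl φ.inv, ?_, ?_⟩, fun r => ?_, ?_⟩
  · rw [← tr_comp, φ.hom_inv_id, tr_id]
  · rw [← tr_comp, φ.inv_hom_id, tr_id]
  · rw [← tr_map u g q' q (u ≫ q) w rfl (ρ r), ← tr_map u g q' q (u ≫ q) w rfl (ρ' r)]
    simp only
    rw [← tr_comp, ← tr_comp, h1]
  · have h3 := (tr_rel_iff u g q' q (u ≫ q) w rfl s s' hs hs' (u ≫ s) hn rfl φ.hom
      ((EtCoh.pull q).map (ρ' c))).2 (congrArg (EtCoh.pull u).map h2)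
    rw [tr_map u g q' q (u ≫ q) w rfl (ρ' c)] at h3
    exact h3

/-- Pullback of twist data is injective for extensions by zero. -/
theorem TwistObj.of_pull {X U Y V : Scheme.{u}} (j : U ⟶ X) (q : Y ⟶ X) (v : V ⟶ Y) [IsOpenImmersion v]
    (qU : V ⟶ U) (w : qU ≫ j = v ≫ q)
    (s : Y ⟶ Y) (s' : V ⟶ V) (hs : s ≫ q = q) (hs' : s' ≫ qU = qU) (hn : s' ≫ v = v ≫ s)
    {c : Λ} {M M' : EtCoh.Ab X} {ρ : Λ → (M ⟶ M)} {ρ' : Λ → (M' ⟶ M')}
    (hM : IsIso (Etcore.MVShriek.c v ((EtCoh.pull q).obj M)))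
    (hM' : IsIso (Etcore.MVShriek.c v ((EtCoh.pull q).obj M')))
    (h : TwistObj qU s' hs' c (fun r => (EtCoh.pull j).map (ρ r)) (fun r => (EtCoh.pull j).map (ρ' r))) :
    TwistObj q s hs c ρ ρ' := by
  obtain ⟨φ, h1, h2⟩ := h
  have hb1 : Function.Bijective (tr v j qU q (v ≫ q) w rfl : ((EtCoh.pull q).obj M ⟶ (EtCoh.pull q).obj M') → _) :=
    bijective_tr v j qU q (v ≫ q) w rfl
  have hb2 : Function.Bijective (tr v j qU q (v ≫ q) w rfl : ((EtCoh.pull q).obj M' ⟶ (EtCoh.pull q).obj M) → _) :=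
    bijective_tr v j qU q (v ≫ q) w rfl
  have hb3 : Function.Bijective (tr v j qU q (v ≫ q) w rfl : ((EtCoh.pull q).obj M ⟶ (EtCoh.pull q).obj M) → _) :=
    bijective_tr v j qU q (v ≫ q) w rfl
  have hb4 : Function.Bijective (tr v j qU q (v ≫ q) w rfl : ((EtCoh.pull q).obj M' ⟶ (EtCoh.pull q).obj M') → _) :=
    bijective_tr v j qU q (v ≫ q) w rfl
  obtain ⟨f, hf⟩ := hb1.2 φ.hom
  obtain ⟨f', hf'⟩ := hb2.2 φ.inv
  refine ⟨⟨f, f', hb3.1 ?_, hb4.1 ?_⟩, fun r => hb1.1 ?_, ?_⟩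
  · rw [tr_comp, tr_id, hf, hf', φ.hom_inv_id]
  · rw [tr_comp, tr_id, hf, hf', φ.inv_hom_id]
  · simp only
    rw [tr_comp, tr_comp, tr_map, tr_map, hf]
    exact h1 r
  · have h3 := (tr_rel_iff v j qU q (v ≫ q) w rfl s s' hs hs' (v ≫ s) hn rfl f
      ((EtCoh.pull q).map (ρ' c))).1 (by
        rw [tr_map v j qU q (v ≫ q) w rfl (ρ' c), hf]
        exact h2)
    -- the source `s⁻¹ q⁻¹ j_! L` has invertible counit
    have h4 : IsIso ((Etcore.MVShriek.adj v).counit.app ((EtCoh.pull s).obj ((EtCoh.pull q).obj M))) := by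
      have h6 : IsIso (((Etcore.MVShriek.adj v).counit).app ((EtCoh.pull q).obj M)) := hM
      exact (NatTrans.isIso_app_iff_of_iso ((Etcore.MVShriek.adj v).counit) (asIso (th s q q hs M))).2 h6
    have h7 := bijective_map_of_isIso_counit (Etcore.MVShriek.adj v) ((EtCoh.pull s).obj ((EtCoh.pull q).obj M))
      ((EtCoh.pull q).obj M')
    exact h7.1 h3

/-- The unit `L ≅ j⁻¹ j_! L`. -/
theorem objIso_pull_extZero {X U : Scheme.{u}} (j : U ⟶ X) [IsOpenImmersion j] {G : EtCoh.Ab U} (ρ : Λ → (G ⟶ G)) :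
    ObjIso ρ (fun r => (EtCoh.pull j).map ((EtShriek.extZero j).map (ρ r))) := by
  have h : IsIso ((Etcore.MVShriek.adj j).unit.app G) := by
    have h1 : (Etcore.MVShriek.adj j).unit.app G =
        (EtShriek.extZeroAdj j).unit.app G ≫
          (Etcore.ShriekBasic.pullIsoRestr j).symm.hom.app ((EtShriek.extZero j).obj G) := by
      unfold Etcore.MVShriek.adj
      simp
    rw [h1]
    infer_instance
  exact ⟨asIso ((Etcore.MVShriek.adj j).unit.app G), fun r => ((Etcore.MVShriek.adj j).unit.naturality (ρ r))⟩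

/-- Twist data extend by zero. -/
theorem TwistObj.extZero {X U Y V : Scheme.{u}} (j : U ⟶ X) [IsOpenImmersion j] (q : Y ⟶ X) (v : V ⟶ Y)
    [IsOpenImmersion v] (qU : V ⟶ U) (w : qU ≫ j = v ≫ q) (hv : Set.range v = q ⁻¹' Set.range j)
    (s : Y ⟶ Y) (s' : V ⟶ V) (hs : s ≫ q = q) (hs' : s' ≫ qU = qU) (hn : s' ≫ v = v ≫ s)
    {c : Λ} {G G' : EtCoh.Ab U} {ρ : Λ → (G ⟶ G)} {ρ' : Λ → (G' ⟶ G')} (h : TwistObj qU s' hs' c ρ ρ') :
    TwistObj q s hs c (fun r => (EtShriek.extZero j).map (ρ r)) (fun r => (EtShriek.extZero j).map (ρ' r)) :=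
  TwistObj.of_pull j q v qU w s s' hs hs' hn (isIso_c_pull_extZero v q j hv _) (isIso_c_pull_extZero v q j hv _)
    (h.congr (objIso_pull_extZero j ρ) (objIso_pull_extZero j ρ'))

end Obj

variable {Λ : Type} [CommRing Λ]

/-- An isomorphism of `Λ`-sheaves. -/
def LamIso {X : Scheme.{u}} (L L' : EtLam.Sheaf Λ X) : Prop :=
  ObjIso (fun r => (L.act r : L.carrier ⟶ L.carrier)) (fun r => (L'.act r : L'.carrier ⟶ L'.carrier))

/-- `L'` is the twist of `L` by `c`, through `q : Y ⟶ X` and the endomorphism `s` of `Y` over `X`. -/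
def TwistVia {X Y : Scheme.{u}} (q : Y ⟶ X) (s : Y ⟶ Y) (w : s ≫ q = q) (c : Λ) (L L' : EtLam.Sheaf Λ X) : Prop :=
  TwistObj q s w c (fun r => (L.act r : L.carrier ⟶ L.carrier)) (fun r => (L'.act r : L'.carrier ⟶ L'.carrier))

theorem LamIso.refl {X : Scheme.{u}} (L : EtLam.Sheaf Λ X) : LamIso L L := ObjIso.refl _

theorem LamIso.symm {X : Scheme.{u}} {L L' : EtLam.Sheaf Λ X} (h : LamIso L L') : LamIso L' L := ObjIso.symm h

theorem LamIso.trans {X : Scheme.{u}} {L L' L'' : EtLam.Sheaf Λ X} (h : LamIso L L') (h' : LamIso L' L'') :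
    LamIso L L'' := ObjIso.trans h h'

theorem LamIso.pullback {X Y : Scheme.{u}} (g : X ⟶ Y) {L L' : EtLam.Sheaf Λ Y} (h : LamIso L L') :
    LamIso (EtLam.pullback g L) (EtLam.pullback g L') := ObjIso.map (EtCoh.pull g) h

theorem LamIso.pushforward {X Y : Scheme.{u}} (g : X ⟶ Y) {L L' : EtLam.Sheaf Λ X} (h : LamIso L L') :
    LamIso (EtLam.pushforward g L) (EtLam.pushforward g L') := ObjIso.map (EtCoh.push g) h

theorem LamIso.extZeroLam {X Y : Scheme.{u}} (j : X ⟶ Y) [Etale j] [EtShriek.JCont j] {L L' : EtLam.Sheaf Λ X}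
    (h : LamIso L L') : LamIso (FinFr.extZeroLam j L) (FinFr.extZeroLam j L') := ObjIso.map (EtShriek.extZero j) h

theorem lamIso_pull_extZero {X U : Scheme.{u}} (j : U ⟶ X) [IsOpenImmersion j] (L : EtLam.Sheaf Λ U) :
    LamIso L (EtLam.pullback j (FinFr.extZeroLam j L)) := objIso_pull_extZero j _

theorem TwistVia.congr {X Y : Scheme.{u}} {q : Y ⟶ X} {s : Y ⟶ Y} {w : s ≫ q = q} {c : Λ}
    {L L' L₁ L₁' : EtLam.Sheaf Λ X} (h : TwistVia q s w c L L') (hL : LamIso L L₁) (hL' : LamIso L' L₁') :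
    TwistVia q s w c L₁ L₁' := TwistObj.congr h hL hL'

/-- Pullback of twist data along a commutative square. -/
theorem TwistVia.pull {X X' Y Y' : Scheme.{u}} (u : Y' ⟶ Y) (g : X' ⟶ X) (q' : Y' ⟶ X') (q : Y ⟶ X)
    (w : q' ≫ g = u ≫ q) (s : Y ⟶ Y) (s' : Y' ⟶ Y') (hs : s ≫ q = q) (hs' : s' ≫ q' = q') (hn : s' ≫ u = u ≫ s)
    {c : Λ} {L L' : EtLam.Sheaf Λ X} (h : TwistVia q s hs c L L') :
    TwistVia q' s' hs' c (EtLam.pullback g L) (EtLam.pullback g L') :=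
  TwistObj.pull u g q' q w s s' hs hs' hn h

/-- Twist data extend by zero. -/
theorem TwistVia.extZeroLam {X U Y V : Scheme.{u}} (j : U ⟶ X) [IsOpenImmersion j] (q : Y ⟶ X) (v : V ⟶ Y)
    [IsOpenImmersion v] (qU : V ⟶ U) (w : qU ≫ j = v ≫ q) (hv : Set.range v = q ⁻¹' Set.range j)
    (s : Y ⟶ Y) (s' : V ⟶ V) (hs : s ≫ q = q) (hs' : s' ≫ qU = qU) (hn : s' ≫ v = v ≫ s)
    {c : Λ} {L L' : EtLam.Sheaf Λ U} (h : TwistVia qU s' hs' c L L') :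
    TwistVia q s hs c (FinFr.extZeroLam j L) (FinFr.extZeroLam j L') :=
  TwistObj.extZero j q v qU w hv s s' hs hs' hn h

end Groth.Agent.Sga4h.H912.Twist
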