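import Groth.Agent.Etcore.PullCoh
import Groth.Agent.Etcore.MVShriek

/-!
# Transport of morphisms between pulled back sheaves along commutative squares

For a commutative square `q' ≫ g = u ≫ q` a morphism `f : q⁻¹G ⟶ q⁻¹G'` on `Y` gives
`tr f : q'⁻¹g⁻¹G ⟶ q'⁻¹g⁻¹G'` on `Y'`.  We study the compatibility with endomorphisms `s` of `Y`, `s'` of `Y'` over
`X`, `X'` (`tr_rel`), and the bijectivity of `tr` for extensions by zero.
-/

set_option autoImplicit false
universe u

open CategoryTheory CategoryTheory.Limits AlgebraicGeometry Opposite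

namespace Groth.Agent.Sga4h.H912.TwistCoh

open Groth.Agent.Etcore.PullCoh

section Tr

variable {X X' Y Y' : Scheme.{u}} (u : Y' ⟶ Y) (g : X' ⟶ X) (q' : Y' ⟶ X') (q : Y ⟶ X) (m : Y' ⟶ X)
  (w : q' ≫ g = m) (w' : u ≫ q = m)

/-- transport of a morphism along a commutative square. -/
noncomputable def tr {G G' : EtCoh.Ab X} (f : (EtCoh.pull q).obj G ⟶ (EtCoh.pull q).obj G') :
    (EtCoh.pull q').obj ((EtCoh.pull g).obj G) ⟶ (EtCoh.pull q').obj ((EtCoh.pull g).obj G') :=
  th q' g m w G ≫ inv (th u q m w' G) ≫ (EtCoh.pull u).map f ≫ th u q m w' G' ≫ inv (th q' g m w G')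

theorem tr_id (G : EtCoh.Ab X) : tr u g q' q m w w' (𝟙 ((EtCoh.pull q).obj G)) = 𝟙 _ := by
  simp [tr]

theorem tr_comp {G G' G'' : EtCoh.Ab X} (f : (EtCoh.pull q).obj G ⟶ (EtCoh.pull q).obj G')
    (f' : (EtCoh.pull q).obj G' ⟶ (EtCoh.pull q).obj G'') :
    tr u g q' q m w w' (f ≫ f') = tr u g q' q m w w' f ≫ tr u g q' q m w w' f' := by
  simp [tr]

theorem tr_map {G G' : EtCoh.Ab X} (a : G ⟶ G') :
    tr u g q' q m w w' ((EtCoh.pull q).map a) = (EtCoh.pull q').map ((EtCoh.pull g).map a) := by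
  have h1 := th_nat u q m w' a
  have h2 := th_nat q' g m w a
  unfold tr
  rw [← Category.assoc ((EtCoh.pull u).map _), h1, Category.assoc, IsIso.inv_hom_id_assoc,
    ← Category.assoc (th q' g m w G), ← h2, Category.assoc, IsIso.hom_inv_id, Category.comp_id]

variable (s : Y ⟶ Y) (s' : Y' ⟶ Y') (hs : s ≫ q = q) (hs' : s' ≫ q' = q') (n : Y' ⟶ Y) (hn : s' ≫ u = n)
  (hn' : u ≫ s = n)

include hn hn' in
theorem tr_rel_aux {G G' : EtCoh.Ab X} (f : (EtCoh.pull q).obj G ⟶ (EtCoh.pull q).obj G') :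
    (EtCoh.pull s').map (tr u g q' q m w w' f) ≫ th s' q' q' hs' ((EtCoh.pull g).obj G') ≫ th q' g m w G' =
      th s' q' q' hs' ((EtCoh.pull g).obj G) ≫ th q' g m w G ≫ inv (th u q m w' G) ≫
        inv ((EtCoh.pull u).map (th s q q hs G)) ≫ (EtCoh.pull u).map ((EtCoh.pull s).map f) ≫
          (EtCoh.pull u).map (th s q q hs G') ≫ th u q m w' G' := by
  have hm : s' ≫ m = m := by rw [← w, ← Category.assoc, hs']
  have hnm : n ≫ q = m := by rw [← hn', Category.assoc, hs, w']
  have A := fun (H : EtCoh.Ab X) => th_assoc s' q' g q' m m hs' w hm w H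
  have B := fun (H : EtCoh.Ab X) => th_assoc s' u q n m m hn w' hm hnm H
  have C := fun (H : EtCoh.Ab X) => th_assoc u s q n q m hn' hs w' hnm H
  -- left hand side
  have e1 : (EtCoh.pull s').map (tr u g q' q m w w' f) ≫ th s' q' q' hs' ((EtCoh.pull g).obj G') ≫
      th q' g m w G' = th s' q' q' hs' ((EtCoh.pull g).obj G) ≫ th q' g m w G ≫
        inv (th n q m hnm G) ≫ (EtCoh.pull n).map f ≫ th n q m hnm G' := by
    rw [← A G', tr]
    simp only [Functor.map_comp, Functor.map_inv, Category.assoc, IsIso.inv_hom_id_assoc]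
    rw [B G', ← Category.assoc ((EtCoh.pull s').map ((EtCoh.pull u).map f)), th_nat s' u n hn f,
      Category.assoc]
    have h3 : inv ((EtCoh.pull s').map (th u q m w' G)) ≫ th s' u n hn ((EtCoh.pull q).obj G) =
        th s' m m hm G ≫ inv (th n q m hnm G) := by
      rw [IsIso.inv_comp_eq, ← Category.assoc, IsIso.eq_comp_inv, B G]
    rw [← Category.assoc (inv ((EtCoh.pull s').map (th u q m w' G))), h3, Category.assoc,
      ← Category.assoc ((EtCoh.pull s').map (th q' g m w G)), A G, Category.assoc]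
  rw [e1]
  congr 2
  rw [C G', ← Category.assoc ((EtCoh.pull u).map ((EtCoh.pull s).map f)), th_nat u s n hn' f, Category.assoc]
  have h4 : inv (th u q m w' G) ≫ inv ((EtCoh.pull u).map (th s q q hs G)) ≫ th u s n hn' ((EtCoh.pull q).obj G) =
      inv (th n q m hnm G) := by
    rw [IsIso.inv_comp_eq, IsIso.inv_comp_eq, ← Category.assoc, C G, Category.assoc, IsIso.hom_inv_id,
      Category.comp_id]
  rw [← h4]
  simp only [Category.assoc]

include hn hn' in
/-- The compatibility of `tr f` with `s'` is the pullback of the compatibility of `f` with `s`. -/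
theorem tr_rel_iff {G G' : EtCoh.Ab X} (f : (EtCoh.pull q).obj G ⟶ (EtCoh.pull q).obj G')
    (e : (EtCoh.pull q).obj G' ⟶ (EtCoh.pull q).obj G') :
    (EtCoh.pull s').map (tr u g q' q m w w' f) ≫ th s' q' q' hs' ((EtCoh.pull g).obj G') =
        th s' q' q' hs' ((EtCoh.pull g).obj G) ≫ tr u g q' q m w w' f ≫ tr u g q' q m w w' e ↔
      (EtCoh.pull u).map ((EtCoh.pull s).map f ≫ th s q q hs G') =
        (EtCoh.pull u).map (th s q q hs G ≫ f ≫ e) := by
  have h1 := tr_rel_aux u g q' q m w w' s s' hs hs' n hn hn' f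
  have h2 : (th s' q' q' hs' ((EtCoh.pull g).obj G) ≫ tr u g q' q m w w' f ≫ tr u g q' q m w w' e) ≫ th q' g m w G' =
      th s' q' q' hs' ((EtCoh.pull g).obj G) ≫ th q' g m w G ≫ inv (th u q m w' G) ≫
        (EtCoh.pull u).map f ≫ (EtCoh.pull u).map e ≫ th u q m w' G' := by
    rw [← tr_comp, tr]
    simp
  rw [← cancel_mono (th q' g m w G'), h2, Category.assoc, h1, cancel_epi, cancel_epi, cancel_epi,
    IsIso.inv_comp_eq]
  simp only [← Category.assoc]
  rw [cancel_mono]
  simp only [Functor.map_comp, Category.assoc]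

end Tr

/-- A right adjoint is bijective on morphisms out of an object with invertible counit. -/
theorem bijective_map_of_isIso_counit {C D : Type*} [Category* C] [Category* D] {L : C ⥤ D} {R : D ⥤ C}
    (adj : L ⊣ R) (A B : D) [IsIso (adj.counit.app A)] :
    Function.Bijective (fun f : A ⟶ B => R.map f) := by
  have h1 : (fun f : A ⟶ B => R.map f) =
      (adj.homEquiv (R.obj A) B) ∘ (fun f : A ⟶ B => adj.counit.app A ≫ f) := by
    funext f
    simp [Adjunction.homEquiv_unit]
  rw [h1]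
  refine (adj.homEquiv _ _).bijective.comp ⟨fun f f' h => ?_, fun f => ⟨inv (adj.counit.app A) ≫ f, by simp⟩⟩
  exact (cancel_epi (adj.counit.app A)).1 h

section Open

variable {X X' Y Y' : Scheme.{u}} (u : Y' ⟶ Y) (g : X' ⟶ X) (q' : Y' ⟶ X') (q : Y ⟶ X) (m : Y' ⟶ X)
  (w : q' ≫ g = m) (w' : u ≫ q = m) [IsOpenImmersion u]

theorem bijective_tr {G G' : EtCoh.Ab X} [IsIso (Etcore.MVShriek.c u ((EtCoh.pull q).obj G))] :
    Function.Bijective (tr u g q' q m w w' : ((EtCoh.pull q).obj G ⟶ (EtCoh.pull q).obj G') → _) := by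
  have : IsIso ((Etcore.MVShriek.adj u).counit.app ((EtCoh.pull q).obj G)) :=
    inferInstanceAs (IsIso (Etcore.MVShriek.c u ((EtCoh.pull q).obj G)))
  have h1 := bijective_map_of_isIso_counit (Etcore.MVShriek.adj u) ((EtCoh.pull q).obj G) ((EtCoh.pull q).obj G')
  refine ⟨fun f f' h => h1.1 ?_, fun f => ?_⟩
  · unfold tr at h
    simp only [cancel_epi] at h
    simp only [← Category.assoc, cancel_mono] at h
    exact h
  · obtain ⟨f', hf'⟩ := h1.2 (th u q m w' G ≫ inv (th q' g m w G) ≫ f ≫ th q' g m w G' ≫ inv (th u q m w' G'))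
    simp only at hf'
    refine ⟨f', ?_⟩
    unfold tr
    rw [hf']
    simp

/-- The inverse image of an extension by zero is an extension by zero. -/
theorem isIso_c_pull_extZero {U : Scheme.{u}} (j : U ⟶ X) [IsOpenImmersion j] (hu : Set.range u = q ⁻¹' Set.range j)
    (L : EtCoh.Ab U) : IsIso (Etcore.MVShriek.c u ((EtCoh.pull q).obj ((EtShriek.extZero j).obj L))) := by
  rw [Etcore.Stalks.isIso_iff_stalks]
  intro Ω _ _ ξ
  by_cases h : ξ default ∈ Set.range u
  · exact Etcore.MVShriek.isIso_stalk_c u _ ξ h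
  · refine (Etcore.MVShriek.isZero_stalk_P u _ ξ h).isIso ?_ _
    have h1 : IsZero ((EtCoh.stalk (ξ ≫ q)).obj ((EtShriek.extZero j).obj L)) := by
      refine Etcore.ShriekUnique.isZero_stalk_extZero' j (ξ ≫ q) ?_ L
      rw [Scheme.Hom.comp_apply]
      intro h'
      exact h (by rw [hu]; exact h')
    exact h1.of_iso ((Etbase.StalkPull.stalkPullIso q ξ).app _).symm

end Open

end Groth.Agent.Sga4h.H912.TwistCoh
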