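import Groth.Agent.Sga4h.H912.TwistGal
import Groth.Agent.Sga4h.H925.Defs

/-!
# The effect of a Galois twist on cohomology
-/

set_option autoImplicit false
universe u w w' v' u'

open CategoryTheory CategoryTheory.Limits AlgebraicGeometry Opposite

namespace Groth.Agent.Sga4h.H912.TwistH

open Groth.Agent.Etcore.PullCoh Groth.Agent.Sga4h.H912.TwistCoh Groth.Agent.Sga4h.H912.Twist

section Abs

variable {Λ : Type} [CommRing Λ] {C : Type u'} [Category.{v'} C] {J : GrothendieckTopology C}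
  [HasSheafify J AddCommGrpCat.{w}] [HasExt.{w'} (Sheaf J AddCommGrpCat.{w})]

/-- The abstract computation. -/
theorem abs_equiv (F F' : Sheaf J AddCommGrpCat.{w}) (n : ℕ) (φ : F ≅ F') (m : Module Λ (Sheaf.H F n))
    (m' : Module Λ (Sheaf.H F' n)) (ρ : Λ → (F ⟶ F)) (ρ' : Λ → (F' ⟶ F'))
    (hm : ∀ r x, (m.toSMul.smul r x : Sheaf.H F n) = Sheaf.H.map (ρ r) n x)
    (hm' : ∀ r x, (m'.toSMul.smul r x : Sheaf.H F' n) = Sheaf.H.map (ρ' r) n x)
    (h : ∀ r, ρ r ≫ φ.hom = φ.hom ≫ ρ' r) (S : Sheaf J AddCommGrpCat.{w} ⥤ Sheaf J AddCommGrpCat.{w})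
    (P : ∀ G : Sheaf J AddCommGrpCat.{w}, Sheaf.H G n →+ Sheaf.H (S.obj G) n)
    (hP : ∀ (G G' : Sheaf J AddCommGrpCat.{w}) (f : G ⟶ G') (x : Sheaf.H G n),
      P G' (Sheaf.H.map f n x) = Sheaf.H.map (S.map f) n (P G x))
    (t : S.obj F ⟶ F) (t' : S.obj F' ⟶ F') (c : Λ) (ht : S.map φ.hom ≫ t' = t ≫ φ.hom ≫ ρ' c)
    (g : Sheaf.H F n →+ Sheaf.H F n) (g' : Sheaf.H F' n →+ Sheaf.H F' n)
    (hg : ∀ x, g x = Sheaf.H.map t n (P F x)) (hg' : ∀ x, g' x = Sheaf.H.map t' n (P F' x)) :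
    ∃ e : Sheaf.H F n ≃ₗ[Λ] Sheaf.H F' n, ∀ x, g' (e x) = c • e (g x) := by
  refine ⟨{
      toFun := fun x => Sheaf.H.map φ.hom n x
      invFun := fun x => Sheaf.H.map φ.inv n x
      map_add' := fun x y => map_add (Sheaf.H.map φ.hom n) x y
      map_smul' := fun r x => ?_
      left_inv := fun x => ?_
      right_inv := fun x => ?_ }, fun x => ?_⟩
  · have h1 : r • x = Sheaf.H.map (ρ r) n x := hm r x
    have h2 : r • (Sheaf.H.map φ.hom n x) = Sheaf.H.map (ρ' r) n (Sheaf.H.map φ.hom n x) := hm' r _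
    rw [h1, RingHom.id_apply, h2, ← Sheaf.H.map_comp_apply, ← Sheaf.H.map_comp_apply, h]
  · change Sheaf.H.map φ.inv n (Sheaf.H.map φ.hom n x) = x
    rw [← Sheaf.H.map_comp_apply, φ.hom_inv_id, Sheaf.H.map_id_apply]
  · change Sheaf.H.map φ.hom n (Sheaf.H.map φ.inv n x) = x
    rw [← Sheaf.H.map_comp_apply, φ.inv_hom_id, Sheaf.H.map_id_apply]
  · change g' (Sheaf.H.map φ.hom n x) = c • Sheaf.H.map φ.hom n (g x)
    have h2 : c • (Sheaf.H.map φ.hom n (g x)) = Sheaf.H.map (ρ' c) n (Sheaf.H.map φ.hom n (g x)) := hm' c _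
    rw [h2, hg, hg', hP, ← Sheaf.H.map_comp_apply, ← Sheaf.H.map_comp_apply, ← Sheaf.H.map_comp_apply, ht]

end Abs

open Groth.Agent.Sga4h.H925.Defs

variable {Λ : Type} [CommRing Λ] {k : Type u} [Field k] {K : Type u} [Field K] [Algebra k K] {X₀ : Scheme.{u}}
  (a : X₀ ⟶ Spec (CommRingCat.of k)) [Fact FinFr.PullExact.{u}]

/-- The effect of a twist on the Galois action on cohomology. -/
theorem exists_equiv {a} {σ : K ≃ₐ[k] K} {c : Λ} {L L' : EtLam.Sheaf Λ X₀} (h : TwistGal.GalTwist a σ c L L') (n : ℕ) :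
    ∃ e : EtCoh.H (FinFr.ext K a) (EtLam.pullback (FinFr.extπ K a) L).carrier n ≃ₗ[Λ]
        EtCoh.H (FinFr.ext K a) (EtLam.pullback (FinFr.extπ K a) L').carrier n,
      ∀ x, FinFr.galLin a σ L' n (e x) = c • e (FinFr.galLin a σ L n x) := by
  obtain ⟨φ, h1, h2⟩ := h
  have := FinFr.pullExact_out (FinFr.galAct a σ)
  exact abs_equiv _ _ n φ (EtLam.moduleH (EtLam.pullback (FinFr.extπ K a) L) n)
    (EtLam.moduleH (EtLam.pullback (FinFr.extπ K a) L') n) _ _ (fun r x => rfl) (fun r x => rfl)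
    h1 (EtCoh.pull (FinFr.galAct a σ)) (fun G => EtCore.Hpull (FinFr.galAct a σ) G n)
    (fun G G' f x => EtCore.Hpull_natural (FinFr.galAct a σ) f n x)
    (th (FinFr.galAct a σ) (FinFr.extπ K a) (FinFr.extπ K a) (FinFr.galAct_fst a σ) L.carrier)
    (th (FinFr.galAct a σ) (FinFr.extπ K a) (FinFr.extπ K a) (FinFr.galAct_fst a σ) L'.carrier) c h2
    (FinFr.galLin a σ L n).toAddMonoidHom (FinFr.galLin a σ L' n).toAddMonoidHom
    (fun x => rfl) (fun x => rfl)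

end Groth.Agent.Sga4h.H912.TwistH
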